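/-
Sections cannot have more automizers than an abelian Sylow subgroup allows.
-/
import Mathlib.GroupTheory.Sylow
import Mathlib.GroupTheory.SpecificGroups.Alternating
import Mathlib.GroupTheory.Perm.ViaEmbedding
import Mathlib.Tactic.Group

set_option autoImplicit false

namespace CfsgLib.Chev.AltSect

open scoped Pointwise

/-- the `k`-th power of everything normalising a Sylow `p`-subgroup centralises it, and it is abelian -/
def AutoExp (G : Type*) [Group G] (p k : ℕ) : Prop :=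
  ∃ S : Sylow p G, (∀ a ∈ S, ∀ b ∈ S, Commute a b) ∧
    ∀ g : G, (∀ s ∈ S, g * s * g⁻¹ ∈ S) → ∀ s ∈ S, Commute (g ^ k) s

variable {G : Type*} [Group G] {p k : ℕ}

/-- no Sylow subgroup to speak of -/
theorem autoExp_of_not_dvd [Finite G] [Fact p.Prime] (h : ¬ p ∣ Nat.card G) : AutoExp G p k := by
  obtain ⟨S⟩ : Nonempty (Sylow p G) := inferInstance
  have h1 : ∀ s ∈ S, s = 1 := by
    intro s hs
    obtain ⟨n, hn⟩ := (S.2 ⟨s, hs⟩)
    have hd : orderOf s ∣ p ^ n := orderOf_dvd_of_pow_eq_one (congrArg Subtype.val hn)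
    obtain ⟨i, -, hi⟩ := (Nat.dvd_prime_pow Fact.out).1 hd
    rcases i with _ | i
    · exact orderOf_eq_one_iff.1 (by simpa using hi)
    · exact absurd ((dvd_pow_self p i.succ_ne_zero).trans (hi ▸ orderOf_dvd_natCard s)) h
  exact ⟨S, fun a ha b _ => by rw [h1 a ha]; exact Commute.one_left b,
    fun g _ s hs => by rw [h1 s hs]; exact Commute.one_right _⟩

lemma conj_pow_mem {S : Set G} {g : G} (h : ∀ s ∈ S, g * s * g⁻¹ ∈ S) :
    ∀ (n : ℕ), ∀ s ∈ S, g ^ n * s * (g ^ n)⁻¹ ∈ S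
  | 0, s, hs => by simpa using hs
  | n + 1, s, hs => by
    rw [show g ^ (n + 1) * s * (g ^ (n + 1))⁻¹ = g * (g ^ n * s * (g ^ n)⁻¹) * g⁻¹ by
      rw [pow_succ']; group]
    exact h _ (conj_pow_mem h n s hs)

lemma conj_pow_congr {P : Set G} {g m : G} (hg : ∀ s ∈ P, g * s * g⁻¹ ∈ P)
    (h : ∀ s ∈ P, m * s * m⁻¹ = g * s * g⁻¹) :
    ∀ (n : ℕ), ∀ s ∈ P, m ^ n * s * (m ^ n)⁻¹ = g ^ n * s * (g ^ n)⁻¹
  | 0, s, _ => by simp
  | n + 1, s, hs => by
    rw [show m ^ (n + 1) * s * (m ^ (n + 1))⁻¹ = m * (m ^ n * s * (m ^ n)⁻¹) * m⁻¹ by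
        rw [pow_succ']; group,
      show g ^ (n + 1) * s * (g ^ (n + 1))⁻¹ = g * (g ^ n * s * (g ^ n)⁻¹) * g⁻¹ by
        rw [pow_succ']; group, conj_pow_congr hg h n s hs]
    exact h _ (conj_pow_mem hg n s hs)

/-- transport of the property to every Sylow subgroup -/
theorem AutoExp.all [Finite G] [Fact p.Prime] (h : AutoExp G p k) (R : Sylow p G) :
    (∀ a ∈ R, ∀ b ∈ R, Commute a b) ∧
      ∀ g : G, (∀ s ∈ R, g * s * g⁻¹ ∈ R) → ∀ s ∈ R, Commute (g ^ k) s := by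
  obtain ⟨S, hab, hk⟩ := h
  obtain ⟨c, rfl⟩ := MulAction.exists_smul_eq G S R
  have hmem : ∀ x : G, x ∈ c • S ↔ c⁻¹ * x * c ∈ S := fun x => by
    show x ∈ ((c • S : Sylow p G) : Subgroup G) ↔ _
    rw [Sylow.coe_subgroup_smul, Subgroup.mem_pointwise_smul_iff_inv_smul_mem]
    simp [MulAut.smul_def, MulAut.inv_def]
    rfl
  have hmem' : ∀ x : G, x ∈ c • S → c⁻¹ * x * c ∈ S := fun x => (hmem x).1
  have back : ∀ {a b : G}, Commute (c⁻¹ * a * c) (c⁻¹ * b * c) → Commute a b := fun {a b} h => by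
    have := congrArg (fun z => c * z * c⁻¹) h.eq
    simpa [Commute, SemiconjBy, mul_assoc] using this
  refine ⟨fun a ha b hb => back (hab _ (hmem' a ha) _ (hmem' b hb)), fun g hg s hs => back ?_⟩
  have e : c⁻¹ * g ^ k * c = (c⁻¹ * g * c) ^ k := by
    have := conj_pow (i := k) (a := c⁻¹) (b := g)
    simpa using this.symm
  rw [e]
  refine hk _ (fun z hz => ?_) _ (hmem' s hs)
  have := hmem' _ (hg (c * z * c⁻¹) ((hmem _).2 (by simpa [mul_assoc] using hz)))
  simpa [mul_assoc] using this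

/-- **automizers in sections** -/
theorem commute_pow_of_section [Finite G] [Fact p.Prime] (hG : AutoExp G p k) {A : Type*} [Group A]
    {H : Subgroup G} (φ : ↥H →* A) (hφ : Function.Surjective φ) {x y : A} {n : ℕ}
    (hx : x ^ p ^ n = 1) (hxy : y * x * y⁻¹ ∈ Subgroup.zpowers x) : Commute (y ^ k) x := by
  classical
  haveI : Finite A := Finite.of_surjective φ hφ
  set X := Subgroup.zpowers x
  set M : Subgroup ↥H := (Subgroup.normalizer (X : Set A)).comap φ
  set φM : ↥M →* A := φ.comp M.subtype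
  set Y : Subgroup ↥M := X.comap φM
  have hXn : ∀ m : ↥M, ∀ a : A, a ∈ X ↔ φM m * a * (φM m)⁻¹ ∈ X := fun m => Subgroup.mem_normalizer_iff.1 m.2
  haveI hYn : Y.Normal := ⟨fun a ha g => by
    show φM (g * a * g⁻¹) ∈ X
    rw [map_mul, map_mul, map_inv]
    exact (hXn g (φM a)).1 ha⟩
  have hyn : y ∈ Subgroup.normalizer (X : Set A) := by
    have h1 : X.map (MulAut.conj y).toMonoidHom ≤ X := by
      rw [MonoidHom.map_zpowers, Subgroup.zpowers_le]
      simpa [MulAut.conj_apply] using hxy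
    have h2 : X.map (MulAut.conj y).toMonoidHom = X :=
      Subgroup.eq_of_le_of_card_ge h1 (Subgroup.card_map_of_injective (MulAut.conj y).injective).ge
    refine Subgroup.mem_normalizer_iff.2 fun a => ⟨fun ha => h1 ⟨a, ha, by simp⟩, fun ha => ?_⟩
    rw [← h2] at ha
    obtain ⟨b, hb, e⟩ := ha
    simp only [MulEquiv.coe_toMonoidHom, MulAut.conj_apply, mul_left_inj, mul_right_inj] at e
    exact e ▸ hb
  obtain ⟨y0, hy0⟩ := hφ y
  let ym : ↥M := ⟨y0, by rw [Subgroup.mem_comap, hy0]; exact hyn⟩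
  obtain ⟨P⟩ : Nonempty (Sylow p ↥Y) := inferInstance
  have hfr := Sylow.normalizer_sup_eq_top P
  set PM : Subgroup ↥M := (P : Subgroup ↥Y).map Y.subtype
  have hd : ym ∈ Subgroup.normalizer (PM : Set ↥M) ⊔ Y := hfr.symm ▸ Subgroup.mem_top _
  obtain ⟨m, hm, a, ha, hma⟩ := Subgroup.mem_sup_of_normal_right.1 hd
  -- the image of the Sylow subgroup is everything
  let ψ : ↥Y →* ↥X := φM.subgroupComap X
  have hψ : Function.Surjective ψ := by
    rintro ⟨z, hz⟩
    obtain ⟨z0, rfl⟩ := hφ z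
    exact ⟨⟨⟨z0, Subgroup.le_normalizer (H := X) hz⟩, hz⟩, rfl⟩
  have hXp : IsPGroup p ↥X := by
    rintro ⟨z, hz⟩
    obtain ⟨i, rfl⟩ := hz
    exact ⟨n, Subtype.ext (by
      show (x ^ i) ^ p ^ n = 1
      rw [← zpow_natCast (x ^ i), ← zpow_mul, mul_comm, zpow_mul, zpow_natCast, hx, one_zpow])⟩
  set Q := P.mapSurjective hψ
  have hQ : (Q : Subgroup ↥X) = ⊤ :=
    (Q.3 (Q := ⊤) (hXp.of_equiv Subgroup.topEquiv.symm) le_top).symm
  obtain ⟨x0, hx0P, hx0⟩ : ∃ x0 ∈ (P : Subgroup ↥Y), ψ x0 = ⟨x, Subgroup.mem_zpowers x⟩ := by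
    have : (⟨x, Subgroup.mem_zpowers x⟩ : ↥X) ∈ (Q : Subgroup ↥X) := hQ ▸ Subgroup.mem_top _
    exact this
  have hφx0 : φM (x0 : ↥M) = x := congrArg Subtype.val hx0
  -- everything inside the ambient group
  set ι : ↥M →* G := H.subtype.comp M.subtype
  have hι : Function.Injective ι := H.subtype_injective.comp M.subtype_injective
  set PG : Subgroup G := PM.map ι
  have hPG : IsPGroup p ↥PG := (P.2.map _).map _
  obtain ⟨R, hR⟩ := hPG.exists_le_sylow
  obtain ⟨hab, hk⟩ := hG.all R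
  set g := ι m
  have hgP : ∀ s ∈ PG, g * s * g⁻¹ ∈ PG := by
    rintro _ ⟨z, hz, rfl⟩
    exact ⟨m * z * m⁻¹, (Subgroup.mem_normalizer_iff.1 hm z).1 hz, by simp [g]⟩
  have hgP' : ∀ s ∈ PG, g⁻¹ * s * g ∈ PG := by
    rintro _ ⟨z, hz, rfl⟩
    refine ⟨m⁻¹ * z * m, (Subgroup.mem_normalizer_iff.1 hm (m⁻¹ * z * m)).2 ?_, by simp [g]⟩
    simpa [mul_assoc] using hz
  -- Burnside
  set C := Subgroup.centralizer (PG : Set G)
  have hRC : (R : Subgroup G) ≤ C := fun r hr => Subgroup.mem_centralizer_iff.2 fun s hs =>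
    hab s (hR hs) r hr
  have hgRC : ((g • R : Sylow p G) : Subgroup G) ≤ C := by
    intro r hr
    rw [Sylow.coe_subgroup_smul, Subgroup.mem_pointwise_smul_iff_inv_smul_mem] at hr
    refine Subgroup.mem_centralizer_iff.2 fun s hs => ?_
    have h1 := hab _ (hR (hgP' s hs)) _ hr
    simp only [MulAut.smul_def, ← map_inv, MulAut.conj_apply, inv_inv] at h1
    have h2 := congrArg (fun z => g * z * g⁻¹) h1.eq
    simpa [mul_assoc] using h2
  obtain ⟨c, hc⟩ := MulAction.exists_smul_eq ↥C ((g • R).subtype hgRC) (R.subtype hRC)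
  have hcR : ((c : G) * g) • R = R := by
    rw [mul_smul]
    ext1
    have := congrArg (fun Z : Sylow p ↥C => (Z : Subgroup ↥C).map C.subtype) hc
    simp only [Sylow.coe_subtype, Subgroup.map_subgroupOf_eq_of_le hRC] at this
    rw [← this, Sylow.coe_subgroup_smul, Sylow.coe_subgroup_smul (g := c), Sylow.coe_subtype]
    ext z
    simp only [Subgroup.mem_pointwise_smul_iff_inv_smul_mem, Subgroup.mem_map]
    constructor
    · intro hz
      have hzR : (c : G)⁻¹ * z * c ∈ ((g • R : Sylow p G) : Subgroup G) := by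
        simpa [MulAut.smul_def, MulAut.inv_def] using hz
      have hzC : z ∈ C := by
        have := mul_mem (mul_mem c.2 (hgRC hzR)) (inv_mem c.2)
        simpa [mul_assoc] using this
      refine ⟨⟨z, hzC⟩, ?_, rfl⟩
      simpa [MulAut.smul_def, MulAut.inv_def, Subgroup.mem_subgroupOf] using hzR
    · rintro ⟨w, hw, rfl⟩
      simpa [MulAut.smul_def, MulAut.inv_def, Subgroup.mem_subgroupOf] using hw
  have hnorm : ∀ s ∈ R, (c : G) * g * s * ((c : G) * g)⁻¹ ∈ R := fun s hs =>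
    (Subgroup.mem_normalizer_iff.1 (Sylow.smul_eq_iff_mem_normalizer.1 hcR) s).1 hs
  have hsame : ∀ s ∈ (PG : Set G), (c : G) * g * s * ((c : G) * g)⁻¹ = g * s * g⁻¹ := by
    intro s hs
    have h1 := Subgroup.mem_centralizer_iff.1 c.2 _ (hgP s hs)
    rw [show (c : G) * g * s * ((c : G) * g)⁻¹ = (c : G) * (g * s * g⁻¹) * (c : G)⁻¹ by group,
      ← h1, mul_inv_cancel_right]
  have hfix : ∀ s ∈ PG, g ^ k * s * (g ^ k)⁻¹ = s := fun s hs => by
    rw [← conj_pow_congr (P := (PG : Set G)) hgP hsame k s hs, (hk _ hnorm s (hR hs)).eq,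
      mul_inv_cancel_right]
  have hzero : ι (m ^ k * (x0 : ↥M) * (m ^ k)⁻¹) = ι (x0 : ↥M) := by
    rw [map_mul, map_mul, map_inv, map_pow]
    exact hfix _ ⟨_, ⟨x0, hx0P, rfl⟩, rfl⟩
  have hmk : φM m ^ k * x * (φM m ^ k)⁻¹ = x := by
    have := congrArg φM (hι hzero)
    rwa [map_mul, map_mul, map_inv, map_pow, hφx0] at this
  -- and the two agree on `x`
  have hy : φM m * φM a = y := by rw [← map_mul, hma]; exact hy0
  have haX : ∀ z ∈ (X : Set A), φM a * z * (φM a)⁻¹ = z := by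
    intro z hz
    rw [show φM a * z = z * φM a from (setLike_mul_comm (s := X) (a := φM a) (b := z) ha hz), mul_inv_cancel_right]
  have hxX : ∀ s ∈ (X : Set A), φM m * s * (φM m)⁻¹ ∈ (X : Set A) := fun s hs => (hXn m s).1 hs
  have h2 : y ^ k * x * (y ^ k)⁻¹ = φM m ^ k * x * (φM m ^ k)⁻¹ := by
    refine conj_pow_congr (P := (X : Set A)) hxX (fun s hs => ?_) k x (Subgroup.mem_zpowers x)
    rw [← hy, show φM m * φM a * s * (φM m * φM a)⁻¹ = φM m * (φM a * s * (φM a)⁻¹) * (φM m)⁻¹ by group,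
      haX s hs]
  rw [hmk] at h2
  exact mul_inv_eq_iff_eq_mul.1 h2

end CfsgLib.Chev.AltSect
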