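/-
Sign patterns on the fundamental roots of D4: those whose triality image is Weyl conjugate have sixteen negative roots.
-/
import Cfsg.Agent.Lib.Chev.Twist.Fam.D4
import Cfsg.Agent.Lib.Chev.OrderTypes
import Cfsg.Agent.Lib.Chev.WeylNF

set_option autoImplicit false
set_option maxRecDepth 100000

namespace CfsgLib.Chev.AltSect.D4

open Cfsg.Lie CfsgLib.Chev

/-- is the value on the root positive, from the signs on the fundamental roots -/
noncomputable def sg (v r : ℕ) : Bool :=
  decide (((List.range chevD4.rank).map fun i => if v.testBit i then auxD4.a r i else 0).sum % 2 = 0)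

/-- the pattern moved by the diagram permutation -/
noncomputable def rho (v : ℕ) : ℕ :=
  ((List.range chevD4.rank).map fun i => if v.testBit i then 2 ^ foldD43.p i else 0).sum

/-- sixteen negative roots -/
noncomputable def good (v : ℕ) : Bool :=
  decide (((List.range chevD4.nroots).filter fun r => !sg v r).length = 16)

/-- the fundamental signs are carried -/
noncomputable def carries (v v' : ℕ) (w : List ℕ) : Bool :=
  (List.range chevD4.rank).all fun i =>
    decide (sg v' (wf auxD4 w (chevD4.simple i)) = sg v (chevD4.simple i))

theorem orbit_chk : ∀ v : Fin 16, v.val = 0 ∨ good v.val = true ∨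
    ∀ w ∈ NF weylD4 chevD4.rank, carries v.val (rho v.val) w = false := by decide +kernel

theorem stab_chk : ∀ v : Fin 16, good v.val = true → ∀ w ∈ NF weylD4 chevD4.rank,
    ((List.range chevD4.nroots).all fun r => decide (sg v.val (wf auxD4 w r) = sg v.val r)) = true →
      ((List.range chevD4.nroots).all fun r => decide ((wf auxD4 w)^[3 + 1] r = r)) = true := by
  decide +kernel

end CfsgLib.Chev.AltSect.D4
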