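/-
Automizers of subgroups of a fixed torus come from the fixed Weyl group.
-/
import Cfsg.Agent.Lib.Chev.Twist.FixBN
import Cfsg.Agent.Lib.KnownB.ChevRoots
import Cfsg.Agent.Lib.Chev.AltSect.Auto

set_option autoImplicit false

namespace CfsgLib.Chev.AltSect

open Cfsg.Lie Matrix CfsgLib.Chev CfsgLib.KnownB.ChevField

variable {D : ChevalleyDatum} {A : Aux} {F : Type*} [Field F]

/-- every state of the table has exponent dividing `k` -/
noncomputable def expChk (D : ChevalleyDatum) (A : Aux) (f : Fold) (T : List FState) (k : ℕ) : Bool :=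
  T.all fun e => (List.range D.nroots).all fun r => decide ((wf A (f.flat e.word))^[k] r = r)

lemma diag_comm (g : Good D A) {a b : GL D.Idx F} (ha : a ∈ D.diagonalSubgroup F)
    (hb : b ∈ D.diagonalSubgroup F) : Commute a b := by
  rw [diagonalSubgroup_eq g] at ha hb
  obtain ⟨c, rfl⟩ := ha
  obtain ⟨d, rfl⟩ := hb
  exact (Commute.all c d).map (tor D A)

lemma acts_pow {g : Good D A} {n : GL D.Idx F} {σ : ℕ → ℕ} (h1 : Acts g (1 : GL D.Idx F) id)
    (h : Acts g n σ) : ∀ k, Acts g (n ^ (k + 1)) σ^[k + 1]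
  | 0 => by simpa using h
  | k + 1 => by
    have := (acts_pow h1 h k).mul h
    rw [pow_succ (n := k + 1)]
    exact this

variable {h : Std D A} {f : Fold} (τ : Twist F h f) {T : List FState}

/-- conjugation on torus elements is that of a monomial element -/
theorem norm_acts (hT : FTabOK D A f T) {g s : GL D.Idx F} {u t v : GL D.Idx F} {e : FState}
    (hu : u ∈ D.posUnipotent F ⊓ τ.fix) (ht : t ∈ D.diagonalSubgroup F ⊓ τ.fix) (he : e ∈ T)
    (hv : v ∈ τ.V (f.flat e.word)) (hg : g = u * t * nW F h.good (f.flat e.word) * v)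
    (hs : s ∈ D.diagonalSubgroup F ⊓ τ.fix) (hs' : g * s * g⁻¹ ∈ D.diagonalSubgroup F) :
    g * s * g⁻¹ = nW F h.good (f.flat e.word) * s * (nW F h.good (f.flat e.word))⁻¹ := by
  have g0 := h.good
  set n := nW F g0 (f.flat e.word)
  set s' := g * s * g⁻¹ with hs'def
  have hgf : g ∈ τ.fix := hg ▸ mul_mem (mul_mem (mul_mem hu.2 ht.2) (τ.nFlat_fix (hT.letters e he))) hv.2
  have hw := τ.valid.flat_letters (hT.letters e he)
  have hns : n * s * n⁻¹ ∈ D.diagonalSubgroup F := conj_diag g0 (nW_mem g0 hw) hs.1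
  have hv2 : s⁻¹ * v * s ∈ τ.V (f.flat e.word) := by
    refine ⟨?_, mul_mem (mul_mem (τ.fix.inv_mem hs.2) hv.2) hs.2⟩
    have hd : s⁻¹ ∈ D.diagonalSubgroup F := inv_mem hs.1
    rw [diagonalSubgroup_eq g0] at hd
    obtain ⟨c, hc⟩ := hd
    have := conj_UP_le (acts_tor g0 c) (P := toNeg D (wf A (f.flat e.word)))
      (K := UP F g0 (toNeg D (wf A (f.flat e.word)))) (fun r hr => hr.1.1)
      (fun r t hr => xG_mem_UP g0 hr t) hv.1
    rwa [hc, inv_inv] at this
  have hu2 : s' * u * s'⁻¹ ∈ D.posUnipotent F :=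
    borel_conj_pos g0 (diag_le_borel hs') hu.1
  have eq : u * (t * (n * s * n⁻¹)) * n * (s⁻¹ * v * s) = (s' * u * s'⁻¹) * (s' * t) * n * v := by
    calc u * (t * (n * s * n⁻¹)) * n * (s⁻¹ * v * s) = u * t * n * v * s := by group
      _ = g * s := by rw [← hg]
      _ = s' * g := by rw [hs'def]; group
      _ = _ := by rw [hg]; group
  obtain ⟨-, e2, -, -⟩ := τ.fix_unique hT hu.1 hu2 (mul_mem ht.1 hns) (mul_mem hs' ht.1) he he hv2 hv eq
  rw [(diag_comm g0 hs' ht.1).eq] at e2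
  exact (mul_left_cancel e2).symm

/-- **the exponent of the fixed Weyl group bounds the automizers of torus subgroups** -/
theorem autoExp_torus [Finite F] (hT : FTabOK D A f T) {k : ℕ} (hk : expChk D A f T (k + 1) = true)
    {p : ℕ} [Fact p.Prime]
    (hidx : ¬ p ∣ ((D.diagonalSubgroup F).subgroupOf τ.fix).index) : AutoExp ↥τ.fix p (k + 1) := by
  classical
  haveI := Fintype.ofFinite F
  haveI : Finite (GL D.Idx F) := finite_GL
  have g0 := h.good
  set Tf := (D.diagonalSubgroup F).subgroupOf τ.fix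
  obtain ⟨P⟩ : Nonempty (Sylow p ↥Tf) := inferInstance
  obtain ⟨S, hS⟩ := (P.2.map Tf.subtype).exists_le_sylow
  have hcard : (S : Subgroup ↥τ.fix) = (P : Subgroup ↥Tf).map Tf.subtype := by
    refine (Subgroup.eq_of_le_of_card_ge hS ?_).symm
    rw [Subgroup.card_map_of_injective Tf.subtype_injective, Sylow.card_eq_multiplicity,
      Sylow.card_eq_multiplicity]
    refine Nat.pow_le_pow_right (Nat.Prime.pos Fact.out) ?_
    rw [← Subgroup.card_mul_index Tf, Nat.factorization_mul Nat.card_pos.ne' Subgroup.index_ne_zero_of_finite,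
      Finsupp.add_apply, Nat.factorization_eq_zero_of_not_dvd hidx, add_zero]
  have hmem : ∀ s ∈ S, (s : GL D.Idx F) ∈ D.diagonalSubgroup F := fun s hs => by
    have : s ∈ (S : Subgroup ↥τ.fix) := hs
    rw [hcard] at this
    obtain ⟨z, -, rfl⟩ := this
    exact z.2
  refine ⟨S, fun a ha b hb => Subtype.ext (diag_comm g0 (hmem a ha) (hmem b hb)).eq, fun g hg s hs => ?_⟩
  obtain ⟨u, hu, t, ht, e, he, v, hv, eg⟩ := τ.fix_decomp hT g.2
  have hw := τ.valid.flat_letters (hT.letters e he)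
  set m : ↥τ.fix := ⟨nW F g0 (f.flat e.word), τ.nFlat_fix (hT.letters e he)⟩
  have hsame : ∀ x ∈ (S : Set ↥τ.fix), m * x * m⁻¹ = g * x * g⁻¹ := fun x hx => Subtype.ext
    (norm_acts τ hT hu ht he hv eg ⟨hmem x hx, x.2⟩ (hmem _ (hg x hx))).symm
  have h1 := conj_pow_congr (P := (S : Set ↥τ.fix)) hg hsame (k + 1) s hs
  have hmk : ((m ^ (k + 1) : ↥τ.fix) : GL D.Idx F) ∈ D.diagonalSubgroup F := by
    rw [Subgroup.coe_pow]
    refine mem_diag_of_id h (pow_mem (nW_mem g0 hw) _) (acts_pow (by simpa using acts_tor (F := F) g0 1) (nW_acts g0 hw) k) fun r hr => ?_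
    have := (List.all_eq_true.1 ((List.all_eq_true.1 hk) e he)) r (List.mem_range.2 hr)
    exact of_decide_eq_true this
  have h2 : m ^ (k + 1) * s * (m ^ (k + 1))⁻¹ = s := Subtype.ext (by
    rw [Subgroup.coe_mul, Subgroup.coe_mul, (diag_comm g0 hmk (hmem s hs)).eq, Subgroup.coe_inv,
      mul_inv_cancel_right])
  rw [h2] at h1
  exact mul_inv_eq_iff_eq_mul.1 h1.symm

end CfsgLib.Chev.AltSect
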