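/-
Automizers of subgroups of the split torus, also inside the centraliser of a torus element.
-/
import Cfsg.Agent.Lib.Chev.SylowTori.Torus
import Cfsg.Agent.Lib.Chev.OddInvol.Cent
import Cfsg.Agent.Lib.Chev.WeylNF
import Cfsg.Agent.Lib.Chev.AltSect.Twist

set_option autoImplicit false

namespace CfsgLib.Chev.AltSect

open Cfsg.Lie Matrix CfsgLib.Chev CfsgLib.Chev.Lang

universe u

variable {D : ChevalleyDatum} {A : Aux} {F : Type u} [Field F]

/-- the centraliser of a torus element -/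
noncomputable def cenTor (D : ChevalleyDatum) (A : Aux) (c : Fin D.rank → Fˣ) : Subgroup (GL D.Idx F) :=
  D.group F ⊓ Subgroup.centralizer ({tor D A c} : Set (GL D.Idx F))

lemma mem_cenTor {c : Fin D.rank → Fˣ} {y : GL D.Idx F} :
    y ∈ cenTor D A c ↔ y ∈ D.group F ∧ y * tor D A c = tor D A c * y := by
  rw [cenTor, Subgroup.mem_inf, Subgroup.mem_centralizer_singleton_iff]

theorem autoExp_cent [Finite F] (h : Std D A) (c : Fin D.rank → Fˣ) {k : ℕ}
    (hW : ∀ w, Letters D w → (∀ r < D.nroots, chi D A c (wf A w r) = chi D A c r) →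
      ∀ r < D.nroots, (wf A w)^[k + 1] r = r)
    {p : ℕ} [Fact p.Prime] (hidx : ¬ p ∣ ((D.diagonalSubgroup F).subgroupOf (D.group F)).index) :
    AutoExp ↥(cenTor D A c) p (k + 1) := by
  classical
  haveI := Fintype.ofFinite F
  haveI : Finite (GL D.Idx F) := finite_GL
  have g0 := h.good
  set C := cenTor D A c
  have htc : (tor D A c : GL D.Idx F) ∈ D.diagonalSubgroup F := by
    rw [diagonalSubgroup_eq g0]; exact ⟨c, rfl⟩
  have hTC : D.diagonalSubgroup F ≤ C := fun y hy =>
    mem_cenTor.2 ⟨diagonalSubgroup_le_group g0 hy, (diag_comm g0 hy htc).eq⟩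
  set Tf := (D.diagonalSubgroup F).subgroupOf C
  have hidx' : ¬ p ∣ Tf.index := fun hd => hidx (hd.trans (by
    show (D.diagonalSubgroup F).relIndex C ∣ (D.diagonalSubgroup F).relIndex (D.group F)
    exact Dvd.intro _ (Subgroup.relIndex_mul_relIndex _ _ _ hTC inf_le_left)))
  obtain ⟨P⟩ : Nonempty (Sylow p ↥Tf) := inferInstance
  obtain ⟨S, hS⟩ := (P.2.map Tf.subtype).exists_le_sylow
  have hcard : (S : Subgroup ↥C) = (P : Subgroup ↥Tf).map Tf.subtype := by
    refine (Subgroup.eq_of_le_of_card_ge hS ?_).symm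
    rw [Subgroup.card_map_of_injective Tf.subtype_injective, Sylow.card_eq_multiplicity,
      Sylow.card_eq_multiplicity]
    refine Nat.pow_le_pow_right (Nat.Prime.pos Fact.out) ?_
    rw [← Subgroup.card_mul_index Tf, Nat.factorization_mul Nat.card_pos.ne' Subgroup.index_ne_zero_of_finite,
      Finsupp.add_apply, Nat.factorization_eq_zero_of_not_dvd hidx', add_zero]
  have hmem : ∀ s ∈ S, (s : GL D.Idx F) ∈ D.diagonalSubgroup F := fun s hs => by
    have : s ∈ (S : Subgroup ↥C) := hs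
    rw [hcard] at this
    obtain ⟨z, -, rfl⟩ := this
    exact z.2
  refine ⟨S, fun a ha b hb => Subtype.ext (diag_comm g0 (hmem a ha) (hmem b hb)).eq, fun g hg s hs => ?_⟩
  obtain ⟨hgG, hgc⟩ := mem_cenTor.1 g.2
  obtain ⟨w, hw, hfus⟩ := SylowTori.fusion h hgG
  set n := nW F g0 w
  have hconj : ∀ a ∈ D.diagonalSubgroup F, (g : GL D.Idx F) * a * (g : GL D.Idx F)⁻¹ ∈ D.diagonalSubgroup F →
      (g : GL D.Idx F) * a * (g : GL D.Idx F)⁻¹ = n * a * n⁻¹ := by
    intro a ha hb
    generalize hb' : (g : GL D.Idx F) * a * (g : GL D.Idx F)⁻¹ = b at hb ⊢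
    have e : (g : GL D.Idx F) * a = b * (g : GL D.Idx F) := by rw [← hb']; group
    rw [diagonalSubgroup_eq g0] at ha hb
    obtain ⟨ca, rfl⟩ := ha
    obtain ⟨cb, rfl⟩ := hb
    have := hfus (fun i => chi D A ca (D.simple i)) (fun i => chi D A cb (D.simple i))
      (by rw [← tor_eq_dgn g0, diagonalSubgroup_eq g0]; exact ⟨ca, rfl⟩)
      (by rw [← tor_eq_dgn g0, diagonalSubgroup_eq g0]; exact ⟨cb, rfl⟩)
      (by rw [← tor_eq_dgn g0, ← tor_eq_dgn g0]; exact e)
    rw [← tor_eq_dgn g0, ← tor_eq_dgn g0] at this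
    exact this.symm
  have hnc : n * tor D A c * n⁻¹ = tor D A c := by
    have e : (g : GL D.Idx F) * tor D A c * (g : GL D.Idx F)⁻¹ = tor D A c := by
      rw [hgc, mul_inv_cancel_right]
    rw [← hconj _ htc (e.symm ▸ htc), e]
  have hnk : n ^ (k + 1) ∈ D.diagonalSubgroup F :=
    mem_diag_of_id h (pow_mem (nW_mem g0 hw) _)
      (acts_pow (by simpa using acts_tor (F := F) g0 1) (nW_acts g0 hw) k)
      (hW w hw fun r hr => OddInvol.chi_conj h (nW_acts g0 hw) hnc hr)
  set m : ↥C := ⟨n, mem_cenTor.2 ⟨monomialSubgroup_le_group g0 (nW_mem g0 hw), mul_inv_eq_iff_eq_mul.1 hnc⟩⟩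
  have hsame : ∀ x ∈ (S : Set ↥C), m * x * m⁻¹ = g * x * g⁻¹ := fun x hx => Subtype.ext
    (hconj _ (hmem x hx) (hmem _ (hg x hx))).symm
  have h1 := conj_pow_congr (P := (S : Set ↥C)) hg hsame (k + 1) s hs
  have hmk : ((m ^ (k + 1) : ↥C) : GL D.Idx F) ∈ D.diagonalSubgroup F := by
    rw [Subgroup.coe_pow]; exact hnk
  have h2 : m ^ (k + 1) * s * (m ^ (k + 1))⁻¹ = s := Subtype.ext (by
    rw [Subgroup.coe_mul, Subgroup.coe_mul, (diag_comm g0 hmk (hmem s hs)).eq, Subgroup.coe_inv,
      mul_inv_cancel_right])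
  rw [h2] at h1
  exact mul_inv_eq_iff_eq_mul.1 h1.symm

/-- exponent check for the stabiliser of a toral involution -/
noncomputable def expChkV (D : ChevalleyDatum) (A : Aux) (lv : List (List Rep)) (v k : ℕ) : Bool :=
  (NF lv D.rank).all fun w =>
    !((List.range D.nroots).all fun r => decide (OddInvol.pb D A v (wf A w r) = OddInvol.pb D A v r)) ||
      (List.range D.nroots).all fun r => decide ((wf A w)^[k] r = r)

/-- the check gives the hypothesis -/
theorem exp_of_chk (h : Std D A) {lv : List (List Rep)} (hw : checkWeyl D A lv = true) {v k : ℕ}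
    (hk : expChkV D A lv v k = true) (h2 : (2 : F) ≠ 0 ∨ v = 0) {w : List ℕ} (hl : Letters D w)
    (hst : ∀ r < D.nroots, chi D A (OddInvol.sgn F D.rank v) (wf A w r) = chi D A (OddInvol.sgn F D.rank v) r) :
    ∀ r < D.nroots, (wf A w)^[k] r = r := by
  have g := h.good
  obtain ⟨w', hw', hs⟩ := exists_NF g hw hl
  have hb := (List.all_eq_true.1 hk) w' hw'
  have hst' : ((List.range D.nroots).all fun r => decide (OddInvol.pb D A v (wf A w' r) = OddInvol.pb D A v r)) = true := by
    refine List.all_eq_true.2 fun r hr => decide_eq_true ?_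
    rw [List.mem_range] at hr
    rcases h2 with h2 | rfl
    · rw [← hs r hr]
      exact OddInvol.pb_of_chi h2 (hst r hr)
    · simp [OddInvol.pb]
  rw [hst', Bool.not_true, Bool.false_or] at hb
  intro r hr
  have hit : ∀ n, (wf A w)^[n] r = (wf A w')^[n] r ∧ (wf A w')^[n] r < D.nroots := by
    intro n
    induction n with
    | zero => exact ⟨rfl, hr⟩
    | succ n ih =>
      rw [Function.iterate_succ_apply', Function.iterate_succ_apply', ih.1]
      exact ⟨hs _ ih.2, wf_lt g (NF_letters hw le_rfl hw') ih.2⟩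
  rw [(hit k).1]
  exact of_decide_eq_true ((List.all_eq_true.1 hb) r (List.mem_range.2 hr))

end CfsgLib.Chev.AltSect
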