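/-
Over an algebraically closed field every monomial involution is conjugate into the torus; elements live over finite fields.
-/
import Cfsg.Agent.Lib.Chev.OddInvol.Toral
import Cfsg.Agent.Lib.KnownB.ChevField
import Mathlib.FieldTheory.IsAlgClosed.AlgebraicClosure
import Mathlib.FieldTheory.IntermediateField.Adjoin.Algebra
import Mathlib.FieldTheory.IntermediateField.Adjoin.Basic
import Mathlib.RingTheory.RootsOfUnity.PrimitiveRoots

set_option autoImplicit false

namespace CfsgLib.Chev.AltSect

open Cfsg.Lie Matrix CfsgLib.Chev CfsgLib.Chev.OddInvol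

universe u

variable {D : ChevalleyDatum} {A : Aux}

/-- a monomial involution is toral when every scalar is a square -/
theorem monomial_toral_closed {L : Type u} [Field L] [IsAlgClosed L] (h : Std D A) (h2 : (2 : L) ≠ 0) :
    ∀ (k : ℕ) {n : GL D.Idx L}, n ∈ D.monomialSubgroup L → n * n = 1 → ∀ {σ : ℕ → ℕ},
      Acts h.good n σ → inv' D σ = k → Toral A n := by
  intro k
  induction k using Nat.strong_induction_on with
  | _ k ih =>
    intro n hn hn2 σ hσ hk
    have g := h.good
    by_cases hall : ∀ i < D.rank, D.IsPosRoot (σ (D.simple i))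
    · have hd := mem_diag_of_id h hn hσ (eq_id h hn hσ hall)
      rw [diagonalSubgroup_eq g] at hd
      obtain ⟨c, hc⟩ := hd
      exact ⟨1, one_mem _, c, by simp [hc]⟩
    push Not at hall
    by_cases hbad : ∃ i < D.rank, ¬ D.IsPosRoot (σ (D.simple i)) ∧
        σ (D.simple i) ≠ A.neg (D.simple i)
    · obtain ⟨i, hi, hneg, hne⟩ := hbad
      have hm := nS_mem_monomial (F := L) g hi
      obtain ⟨e, he⟩ := nS_sq_mem (F := L) g hi
      have hinv : (nS L g i)⁻¹ = tor D A e⁻¹ * nS L g i := by
        rw [map_inv, he]; group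
      have hinv' : Acts g (nS L g i)⁻¹ (A.refl i) := by
        rw [hinv]; exact (acts_tor g e⁻¹).mul (acts_nS g hi)
      have hact := (hinv'.mul hσ).mul (acts_nS g hi)
      refine Toral.of_conj (y := nS L g i) (monomialSubgroup_le_group g hm) rfl
        (ih _ ?_ (mul_mem (mul_mem (inv_mem hm) hn) hm) (sq_conj hn2) hact rfl)
      rw [← hk]
      exact inv_conj_lt g hσ.map (fun r hr => hσ.invol hn2 hr) hi hneg hne
    push Not at hbad
    obtain ⟨i, hi, hneg⟩ := hall
    have hin := hbad i hi hneg
    obtain ⟨u, hu, eu⟩ := hσ.conj _ (g.simple_lt i hi)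
    obtain ⟨b, hb⟩ := IsAlgClosed.exists_eq_mul_self u
    have hb0 : b ≠ 0 := fun e => hu (by rw [hb, e, mul_zero])
    have hInv : Inv1 g n (D.simple i) (((Units.mk0 b hb0 : Lˣ) : L) * (Units.mk0 b hb0 : Lˣ)) :=
      fun t => by rw [eu t, hin, Units.val_mk0, ← hb]
    obtain ⟨y, hy, c, e⟩ := conj_nS g hi h2 hn2 hInv
    have hN : nG g (D.simple i) (c : L) = tor D A (Pi.mulSingle ⟨i, hi⟩ c) * nS L g i := by
      rw [← hG_simple g ⟨i, hi⟩, hG, nS, nG_neg g (g.simple_lt i hi), inv_mul_cancel_right]
    have hact : Acts g (nG g (D.simple i) (c : L) * n) (A.refl i ∘ σ) := by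
      rw [hN]; exact ((acts_tor g _).mul (acts_nS g hi)).mul hσ
    refine Toral.of_conj hy e (ih _ ?_ ?_ (e ▸ sq_conj hn2) hact rfl)
    · rw [← hk]
      exact inv_refl_lt g hσ.map (fun r hr => hσ.invol hn2 hr) hi hin
    · rw [hN]
      exact mul_mem (mul_mem (tor_mem_monomial g _) (nS_mem_monomial g hi)) hn

/-- lies over a finite intermediate field -/
def OverFinite (D : ChevalleyDatum) (F : Type u) {L : Type u} [Field F] [Field L] [Algebra F L]
    (y : GL D.Idx L) : Prop :=
  ∃ M : IntermediateField F L, FiniteDimensional F M ∧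
    y ∈ (D.group M).map (Matrix.GeneralLinearGroup.map (n := D.Idx) (algebraMap M L))

variable {F L : Type u} [Field F] [Field L] [Algebra F L]

lemma lift_le (g : Good D A) {M M' : IntermediateField F L} (hle : M ≤ M') :
    (D.group M).map (Matrix.GeneralLinearGroup.map (n := D.Idx) (algebraMap M L)) ≤
      (D.group M').map (Matrix.GeneralLinearGroup.map (n := D.Idx) (algebraMap M' L)) := by
  rintro _ ⟨y, hy, rfl⟩
  refine ⟨Matrix.GeneralLinearGroup.map (IntermediateField.inclusion hle).toRingHom y,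
    CfsgLib.KnownB.ChevField.group_map_le g _ ⟨y, hy, rfl⟩, ?_⟩
  ext i j
  rfl

/-- every element of the group is over a finite intermediate field -/
theorem overFinite [Algebra.IsAlgebraic F L] (g : Good D A) {y : GL D.Idx L} (hy : y ∈ D.group L) :
    OverFinite D F y := by
  rw [group_eq g] at hy
  induction hy using Subgroup.closure_induction with
  | mem z hz =>
    obtain ⟨r, t, -, rfl⟩ := hz
    refine ⟨IntermediateField.adjoin F {t}, IntermediateField.adjoin.finiteDimensional
      (Algebra.IsIntegral.isIntegral t), xG g r (⟨t, IntermediateField.mem_adjoin_simple_self F t⟩),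
      xG_mem_group g r _, ?_⟩
    exact CfsgLib.KnownB.ChevField.map_xG g _ r _
  | one => exact ⟨⊥, inferInstance, one_mem _⟩
  | mul a b _ _ ha hb =>
    obtain ⟨M, hM, ha⟩ := ha
    obtain ⟨M', hM', hb⟩ := hb
    exact ⟨M ⊔ M', inferInstance, mul_mem (lift_le g le_sup_left ha) (lift_le g le_sup_right hb)⟩
  | inv a _ ha =>
    obtain ⟨M, hM, ha⟩ := ha
    exact ⟨M, hM, inv_mem ha⟩

/-- a finite field containing given parameters, split for `r` -/
theorem exists_field_split [Fintype F] [IsAlgClosed L] [Algebra.IsAlgebraic F L] (g : Good D A)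
    {y : GL D.Idx L} (hy : y ∈ D.group L) {r : ℕ} [hr : Fact r.Prime] (hrF : (r : F) ≠ 0)
    {n : ℕ} (c : Fin n → Lˣ) :
    ∃ (M : IntermediateField F L) (_ : Fintype M), Fintype.card M % r = 1 ∧
      y ∈ (D.group M).map (Matrix.GeneralLinearGroup.map (n := D.Idx) (algebraMap M L)) ∧
      ∀ i, ((c i : L)) ∈ M := by
  obtain ⟨M₀, hM₀, hy₀⟩ := overFinite (F := F) g hy
  haveI : NeZero (r : L) := ⟨fun e => hrF ((algebraMap F L).injective (by rw [map_natCast, map_zero, e]))⟩
  obtain ⟨ζ, hζ⟩ := HasEnoughRootsOfUnity.exists_primitiveRoot L r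
  set S : Set L := insert ζ (Set.range fun i => (c i : L))
  haveI : Finite S := ((Set.finite_range _).insert ζ).to_subtype
  haveI : FiniteDimensional F (IntermediateField.adjoin F S) :=
    IntermediateField.finiteDimensional_adjoin fun x _ => Algebra.IsIntegral.isIntegral x
  set M := M₀ ⊔ IntermediateField.adjoin F S
  haveI : FiniteDimensional F M := inferInstance
  haveI : Finite M := Module.finite_of_finite F
  letI := Fintype.ofFinite M
  classical
  have hS : S ⊆ M := fun x hx => (le_sup_right : _ ≤ M) (IntermediateField.subset_adjoin F S hx)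
  refine ⟨M, inferInstance, ?_, lift_le g le_sup_left hy₀, fun i => hS (Set.mem_insert_of_mem _ ⟨i, rfl⟩)⟩
  have hζM : ζ ∈ M := hS (Set.mem_insert _ _)
  have hp : IsPrimitiveRoot (⟨ζ, hζM⟩ : M) r :=
    IsPrimitiveRoot.of_map_of_injective (f := algebraMap M L) (by exact hζ) (algebraMap M L).injective
  have hd : r ∣ Fintype.card M - 1 := by
    rw [← Fintype.card_units]
    obtain ⟨z, hz⟩ := hp.isUnit hr.out.ne_zero
    have hz' : IsPrimitiveRoot z r := (hz ▸ hp).of_map_of_injective (f := Units.coeHom M) Units.val_injective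
    rw [hz'.eq_orderOf]
    exact orderOf_dvd_card
  have h1 : 1 ≤ Fintype.card M := Fintype.card_pos
  have hr2 := hr.out.two_le
  obtain ⟨k, hk⟩ := hd
  rw [show Fintype.card M = r * k + 1 by omega, Nat.mul_add_mod, Nat.mod_eq_of_lt (by omega)]

end CfsgLib.Chev.AltSect
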