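/-
Involutions fixed by triality have sixteen negative roots after moving them into the torus.
-/
import Cfsg.Agent.Lib.Chev.AltSect.D4Chk
import Cfsg.Agent.Lib.Chev.AltSect.ToralAC
import Cfsg.Agent.Lib.Chev.OddInvol.Main
import Cfsg.Agent.Lib.Chev.AltSect.Split
import Cfsg.Agent.Lib.Chev.Lang.Cell
import Mathlib.Algebra.CharP.Frobenius

set_option autoImplicit false
set_option maxRecDepth 100000

namespace CfsgLib.Chev.AltSect.D4

open Cfsg.Lie Matrix CfsgLib.Chev CfsgLib.Chev.AltSect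
open CfsgLib.KnownB.ChevField (group_map_le map_tor map_xG)

universe u v

variable {K : Type u} [Field K] {L : Type v} [Field L]

/-- generators go into the fixed points of any compatible endomorphism -/
lemma map_twisted_le {q : ℕ} {σ : L →+* L} (ι : K →+* L) (hσι : ∀ t, σ (ι t) = ι (t ^ q))
    (h3 : ∀ t : K, t ^ (q ^ 3) = t) :
    (twistedD4 K q).map (Matrix.GeneralLinearGroup.map (n := chevD4.Idx) ι) ≤
      (CfsgLib.Chev.D43.tw σ).fix := by
  rw [twistedD4, genSubgroup_eq stdD4.good, Subgroup.map_le_iff_le_comap, Subgroup.closure_le]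
  rintro y ⟨w, hw, rfl⟩
  rw [SetLike.mem_coe, Subgroup.mem_comap, map_list_prod, List.map_map]
  rcases hw with ⟨t, ht, r, hr, rfl⟩ | ⟨t, rs, hrs, rfl⟩
  · simp only [List.map_cons, List.map_nil, List.prod_cons, List.prod_nil, mul_one, Function.comp_apply, map_xG]
    have : ∀ r ∈ [d4p2, d4m2],
        r < chevD4.nroots ∧ foldD43.r r = r ∧ symD4a.e r = 1 := by decide +kernel
    obtain ⟨h1, h2, h3'⟩ := this r hr
    exact CfsgLib.Chev.D43.fix_root h1 h2 h3' (by rw [hσι]; exact congrArg ι ht)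
  · simp only [List.map_cons, List.map_nil, List.prod_cons, List.prod_nil, mul_one, Function.comp_apply, map_xG]
    rw [← hσι, show ι (t ^ q ^ 2) = σ (σ (ι t)) by rw [hσι, hσι, ← pow_mul, sq], ← mul_assoc]
    have hinv : σ (σ (σ (ι t))) = ι t := by
      rw [hσι, hσι, hσι, ← pow_mul, ← pow_mul, show q * (q * q) = q ^ 3 by ring, h3]
    obtain ⟨r, s, u⟩ := rs
    obtain ⟨c1, c2, -, lr, ls, lu, hr', hs', hu', er, es, eu⟩ := CfsgLib.Chev.D43.trip_data _ hrs
    have := Twist.Maps.mul _ (Twist.Maps.mul _ ((CfsgLib.Chev.D43.tw σ).maps_xG lr (ι t))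
      ((CfsgLib.Chev.D43.tw σ).maps_xG ls (σ (ι t)))) ((CfsgLib.Chev.D43.tw σ).maps_xG lu (σ (σ (ι t))))
    dsimp only at hr' hs' hu' er es eu c1 c2
    rw [hr', hs', hu', CfsgLib.Chev.D43.phi_eq er, CfsgLib.Chev.D43.phi_eq es, CfsgLib.Chev.D43.phi_eq eu,
      hinv] at this
    have hc : Commute (xG stdD4.good r (ι t)) (xG stdD4.good s (σ (ι t)) * xG stdD4.good u (σ (σ (ι t)))) :=
      (commute_xG stdD4 c1 _ _).mul_right (commute_xG stdD4 c2 _ _)
    rw [← hc.eq, ← mul_assoc] at this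
    exact this

lemma chi_one_of_tor {c : Fin chevD4.rank → Lˣ} (h : (tor chevD4 auxD4 c : GL chevD4.Idx L) = 1)
    {r : ℕ} (hr : r < chevD4.nroots) : chi chevD4 auxD4 c r = 1 := by
  have h1 := congrArg (fun y : GL chevD4.Idx L =>
    (y : Matrix chevD4.Idx chevD4.Idx L) (Sum.inr ⟨r, hr⟩) (Sum.inr ⟨r, hr⟩)) h
  simp [tor_val, dia] at h1
  exact h1

/-- the value on a root from the signs on the fundamental roots -/
lemma chi_of_sgn {c : Fin chevD4.rank → Lˣ} {v : ℕ}
    (hv : ∀ i : Fin chevD4.rank, chi chevD4 auxD4 c (chevD4.simple i) = OddInvol.sgn L chevD4.rank v i)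
    {r : ℕ} (hr : r < chevD4.nroots) :
    chi chevD4 auxD4 c r = if sg v r then 1 else -1 := by
  rw [chi_eq_wt stdD4.good c hr, wt, Finset.prod_range]
  set f : Fin chevD4.rank → ℤ := fun i => if v.testBit i.val then auxD4.a r i.val else 0
  have e : ∀ i : Fin chevD4.rank,
      chi chevD4 auxD4 c (chevD4.simple i) ^ auxD4.a r i.val = (-1 : Lˣ) ^ f i := fun i => by
    rw [hv]; simp only [OddInvol.sgn, f]
    split_ifs <;> simp
  rw [Finset.prod_congr rfl fun i _ => e i]
  have hs : ∏ i : Fin chevD4.rank, (-1 : Lˣ) ^ f i = (-1 : Lˣ) ^ ∑ i, f i := by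
    induction (Finset.univ : Finset (Fin chevD4.rank)) using Finset.induction_on with
    | empty => simp
    | insert a S ha ih => rw [Finset.prod_insert ha, Finset.sum_insert ha, _root_.zpow_add, ih]
  rw [hs, sg, sum_map_range, Finset.sum_range]
  rcases Int.emod_two_eq_zero_or_one (∑ i, f i) with h | h
  · rw [if_pos (decide_eq_true h), Even.neg_one_zpow (Int.even_iff.2 h)]
  · rw [if_neg (show ¬ (decide ((∑ i, f i) % 2 = 0) = true) by simp [h])]
    exact Odd.neg_one_zpow (Int.odd_iff.2 h)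

lemma rho_bits : ∀ v : Fin 16, ∀ i : Fin 4, (rho v.val).testBit (foldD43.p i.val) = v.val.testBit i.val := by
  decide +kernel

lemma p_surj : ∀ j : Fin 4, ∃ i : Fin 4, foldD43.p i.val = j.val := by decide +kernel

lemma one_ne_neg_one (h2 : (2 : L) ≠ 0) : (1 : Lˣ) ≠ -1 := OddInvol.one_ne_neg h2

/-- **the class of a fixed involution** -/
theorem fixed_class [IsAlgClosed L] {σ : L →+* L} (h2 : (2 : L) ≠ 0) {x : GL chevD4.Idx L}
    (hx : x ∈ (CfsgLib.Chev.D43.tw σ).fix) (hx1 : x ≠ 1) (hx2 : x * x = 1) (hxt : OddInvol.Toral auxD4 x) :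
    ∃ y ∈ chevD4.group L, ∃ c : Fin chevD4.rank → Lˣ, ∃ v : Fin 16, good v.val = true ∧
      y⁻¹ * x * y = tor chevD4 auxD4 c ∧
      ∀ r < chevD4.nroots, chi chevD4 auxD4 c r = if sg v.val r then 1 else -1 := by
  classical
  have g := stdD4.good
  set τ := CfsgLib.Chev.D43.tw σ
  obtain ⟨y, hy, c, hc⟩ := hxt
  set d : Fin chevD4.rank → Lˣ := fun i => chi chevD4 auxD4 c (chevD4.simple i)
  have hcc : (tor chevD4 auxD4 (c * c) : GL chevD4.Idx L) = 1 := by
    rw [map_mul, ← hc]; exact OddInvol.sq_conj hx2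
  have hd : ∀ i, d i = 1 ∨ d i = -1 := fun i => by
    have h1 : d i * d i = 1 := by
      have := chi_one_of_tor hcc (g.simple_lt i i.isLt)
      rw [show chi chevD4 auxD4 (c * c) (chevD4.simple i) = d i * d i by
        simp only [d, chi, Pi.mul_apply, mul_zpow, Finset.prod_mul_distrib]] at this
      exact this
    rw [Units.ext_iff, Units.val_mul, Units.val_one, mul_self_eq_one_iff] at h1
    exact h1.imp (fun e => Units.ext e) fun e => Units.ext (by rw [e, Units.val_neg, Units.val_one])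
  obtain ⟨v, hv, hdv⟩ := OddInvol.exists_sgn d h2 hd
  have hsgn : ∀ i : Fin chevD4.rank,
      chi chevD4 auxD4 c (chevD4.simple i) = OddInvol.sgn L chevD4.rank v i := fun i => congrFun hdv i
  refine ⟨y, hy, c, ⟨v, hv⟩, ?_, hc, fun r hr => chi_of_sgn hsgn hr⟩
  -- the image of the conjugating element
  set yg : GL chevD4.Idx L := ((τ.sigma ⟨y, hy⟩ : ↥(chevD4.group L)) : GL chevD4.Idx L)
  have hmy : τ.Maps y yg := ⟨hy, rfl⟩
  have hxy : τ.Maps (tor chevD4 auxD4 c) (yg⁻¹ * x * yg) := by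
    rw [← hc]; exact Twist.Maps.mul τ (Twist.Maps.mul τ (Twist.Maps.inv τ hmy) hx) hmy
  set c' : Fin chevD4.rank → Lˣ := τ.theta c
  have he : yg⁻¹ * x * yg = tor chevD4 auxD4 c' := Twist.Maps.fun_eq τ hxy (τ.maps_theta c)
  have hygG : yg ∈ chevD4.group L := (τ.sigma ⟨y, hy⟩).2
  -- values of the moved element
  have hval : ∀ i : Fin chevD4.rank,
      chi chevD4 auxD4 c' (chevD4.simple (foldD43.p i)) = OddInvol.sgn L chevD4.rank v i := by
    intro i
    have hs := g.simple_lt i i.isLt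
    have hs' := g.simple_lt _ (τ.valid.p_lt i i.isLt)
    have h1 := Twist.Maps.mul τ (Twist.Maps.mul τ (τ.maps_theta c) (τ.maps_xG hs 1))
      (Twist.Maps.inv τ (τ.maps_theta c))
    rw [tor_conj_xG g c hs, tor_conj_xG g _ (τ.valid.r_lt _ hs), mul_one] at h1
    have h3 := Twist.Maps.fun_eq τ (τ.maps_xG hs _) h1
    rw [τ.valid.r_simple i i.isLt, (τ.phi_simple i i.isLt _).1, (τ.phi_simple i i.isLt _).1, map_one,
      mul_one] at h3
    have h4 := OddInvol.xG_inj stdD4 hs' h3
    refine Units.ext ?_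
    rw [← h4, hsgn i]
    simp only [OddInvol.sgn]
    split_ifs <;> simp
  have hbit : ∀ j : Fin chevD4.rank,
      chi chevD4 auxD4 c' (chevD4.simple j) = OddInvol.sgn L chevD4.rank (rho v) j := by
    intro j
    obtain ⟨i, hi⟩ := p_surj j
    have hb := rho_bits ⟨v, hv⟩ i
    simp only at hb
    rw [hi] at hb
    have := hval i
    rw [hi] at this
    rw [this]
    simp only [OddInvol.sgn, hb]
  -- fusion
  set hh := yg⁻¹ * y
  obtain ⟨w, hw, hfus⟩ := SylowTori.fusion stdD4 (hh := hh) (mul_mem (inv_mem hygG) hy)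
  have hwc : ∀ r < chevD4.nroots, chi chevD4 auxD4 c' (wf auxD4 w r) = chi chevD4 auxD4 c r := by
    intro r hr
    have hdiag : ∀ e : Fin chevD4.rank → Lˣ, (tor chevD4 auxD4 e : GL chevD4.Idx L) ∈ chevD4.diagonalSubgroup L :=
      fun e => by rw [diagonalSubgroup_eq g]; exact ⟨e, rfl⟩
    have h1 := hfus (fun i => chi chevD4 auxD4 c (chevD4.simple i)) (fun i => chi chevD4 auxD4 c' (chevD4.simple i))
      (by rw [← Lang.tor_eq_dgn g]; exact hdiag _) (by rw [← Lang.tor_eq_dgn g]; exact hdiag _)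
      (by rw [← Lang.tor_eq_dgn g, ← Lang.tor_eq_dgn g, ← he, ← hc]; simp only [hh]; group)
    rw [← Lang.tor_eq_dgn g, ← Lang.tor_eq_dgn g] at h1
    exact OddInvol.chi_conj stdD4 (nW_acts g hw) h1 hr
  obtain ⟨w', hw', hs⟩ := exists_NF g weylOKD4 hw
  have hcar : carries v (rho v) w' = true := by
    refine List.all_eq_true.2 fun i hi => decide_eq_true ?_
    rw [List.mem_range] at hi
    have hsi := g.simple_lt i hi
    have := hwc _ hsi
    rw [hs _ hsi, chi_of_sgn hbit (wf_lt g (NF_letters weylOKD4 le_rfl hw') hsi), chi_of_sgn hsgn hsi] at this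
    revert this
    cases sg (rho v) (wf auxD4 w' (chevD4.simple i)) <;> cases sg v (chevD4.simple i) <;>
      simp [one_ne_neg_one h2, (one_ne_neg_one h2).symm]
  rcases orbit_chk ⟨v, hv⟩ with h0 | h0 | h0
  · exfalso
    refine hx1 ?_
    have hchi : ∀ r < chevD4.nroots, chi chevD4 auxD4 c r = 1 := fun r hr => by
      rw [chi_of_sgn hsgn hr, if_pos]
      simp only at h0
      subst h0
      simp [sg]
    have h1 : (tor chevD4 auxD4 c : GL chevD4.Idx L) = 1 := by
      apply Units.ext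
      rw [tor_val, dia_congr (e := fun _ => (1 : L)) (fun s hs => by rw [hchi s hs, Units.val_one]),
        dia_one]
      rfl
    rw [h1] at hc
    have := congrArg (fun z => y * z * y⁻¹) hc
    simpa [mul_assoc] using this
  · exact h0
  · simp [h0 w' hw'] at hcar

/-- an involution over a finite field becomes toral over an algebraically closed one -/
theorem toral_closed [Fintype K] [IsAlgClosed L] (ι : K →+* L) (h2 : (2 : K) ≠ 0) {x : GL chevD4.Idx K}
    (hx : x ∈ chevD4.group K) (hx2 : x * x = 1) :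
    OddInvol.Toral auxD4 (Matrix.GeneralLinearGroup.map ι x) := by
  have g := stdD4.good
  obtain ⟨y, hy, n, hn, e⟩ := OddInvol.exists_monomial stdD4 h2 hx hx2
  obtain ⟨w, hw, c, hc⟩ := monomial_exists_word g hn
  have hnL : Matrix.GeneralLinearGroup.map ι n ∈ chevD4.monomialSubgroup L := by
    rw [hc, map_mul, map_tor, Lang.map_nW]
    exact mul_mem (tor_mem_monomial g _) (nW_mem g hw)
  obtain ⟨s, hs⟩ := exists_acts g hnL
  have h2L : (2 : L) ≠ 0 := fun e0 => h2 (ι.injective (by rw [map_ofNat, map_zero, e0]))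
  have hn2 : Matrix.GeneralLinearGroup.map ι n * Matrix.GeneralLinearGroup.map ι n = 1 := by
    rw [← map_mul, ← e, OddInvol.sq_conj hx2, map_one]
  exact OddInvol.Toral.of_conj (y := Matrix.GeneralLinearGroup.map ι y) (group_map_le g ι ⟨y, hy, rfl⟩)
    (by rw [← map_inv, ← map_mul, ← map_mul, e]) (monomial_toral_closed stdD4 h2L _ hnL hn2 hs rfl)

end CfsgLib.Chev.AltSect.D4
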