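/-
An element of order seven and one of order three in alternating groups of degree at least seven.
-/
import Mathlib.GroupTheory.SpecificGroups.Alternating
import Mathlib.GroupTheory.Perm.ViaEmbedding
import Mathlib.Tactic.NormNum.Prime
import Cfsg.Agent.Lib.Chev.AltSect.Auto

set_option autoImplicit false

namespace CfsgLib.Chev.AltSect

open Equiv

/-- even permutations of a subset -/
noncomputable def altEmb {a r : ℕ} (h : a ≤ r) : alternatingGroup (Fin a) →* alternatingGroup (Fin r) :=
  (((Perm.viaEmbeddingHom (Fin.castLEEmb h)).comp (alternatingGroup (Fin a)).subtype)).codRestrict _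
    fun x => by
      have hx := Perm.mem_alternatingGroup.1 x.2
      rw [Perm.mem_alternatingGroup]
      show Perm.sign (Perm.viaEmbedding _ _) = 1
      simp only [Perm.viaEmbedding, Perm.sign_extendDomain]
      exact hx

lemma altEmb_injective {a r : ℕ} (h : a ≤ r) : Function.Injective (altEmb h) := fun _ _ e =>
  Subtype.ext (Perm.viaEmbeddingHom_injective _ (congrArg Subtype.val e))

/-- witnesses against automizers of exponent `k` in degree `a` -/
theorem not_commute_witness {a r k p : ℕ} (h : a ≤ r) (c d : Perm (Fin a)) (hc : Perm.sign c = 1)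
    (hd : Perm.sign d = 1) (e : ℕ) (he : d * c * d⁻¹ = c ^ e) (hp : c ^ p = 1)
    (hne : d ^ k * c ≠ c * d ^ k) :
    ∃ x y : alternatingGroup (Fin r), x ^ p = 1 ∧ y * x * y⁻¹ ∈ Subgroup.zpowers x ∧
      ¬ Commute (y ^ k) x := by
  set x0 : alternatingGroup (Fin a) := ⟨c, Perm.mem_alternatingGroup.2 hc⟩
  set y0 : alternatingGroup (Fin a) := ⟨d, Perm.mem_alternatingGroup.2 hd⟩
  refine ⟨altEmb h x0, altEmb h y0, ?_, ⟨e, ?_⟩, fun hh => hne ?_⟩
  · rw [← map_pow, show x0 ^ p = 1 from Subtype.ext hp, map_one]
  · show altEmb h x0 ^ (e : ℤ) = _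
    rw [zpow_natCast, ← map_pow, ← map_inv, ← map_mul, ← map_mul]
    exact congrArg _ (Subtype.ext he.symm)
  · have := altEmb_injective h (a₁ := y0 ^ k * x0) (a₂ := x0 * y0 ^ k)
      (by rw [map_mul, map_mul, map_pow]; exact hh.eq)
    exact congrArg Subtype.val this

/-- a seven cycle -/
def seven : Perm (Fin 7) where
  toFun i := i + 1
  invFun i := i - 1
  left_inv i := by simp
  right_inv i := by simp

/-- doubling modulo seven -/
def double : Perm (Fin 7) where
  toFun i := 2 * i
  invFun i := 4 * i
  left_inv := by decide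
  right_inv := by decide

/-- **degree seven needs an automizer of order three** -/
theorem seven_sections {G : Type*} [Group G] [Finite G] {r k : ℕ} (hG : AutoExp G 7 k)
    (hk : ¬ 3 ∣ k) (H : Subgroup G) (φ : ↥H →* alternatingGroup (Fin r)) (hφ : Function.Surjective φ) :
    r ≤ 6 := by
  haveI : Fact (Nat.Prime 7) := ⟨by norm_num⟩
  by_contra hr
  obtain ⟨x, y, hx, hy, hne⟩ := not_commute_witness (r := r) (k := k) (p := 7) (a := 7) (by omega) seven double
    (by decide +kernel) (by decide +kernel) 2 (by decide +kernel) (by decide +kernel) (by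
      have h3 : double ^ 3 = 1 := by decide +kernel
      rw [pow_eq_pow_mod k h3]
      rcases (show k % 3 = 1 ∨ k % 3 = 2 by omega) with e | e <;> rw [e] <;> decide +kernel)
  exact hne (commute_pow_of_section hG φ hφ (n := 1) (by simpa using hx) hy)

end CfsgLib.Chev.AltSect

namespace CfsgLib.Chev.AltSect

open Equiv

/-- a five cycle -/
def five : Perm (Fin 7) where
  toFun i := ![1, 2, 3, 4, 0, 5, 6] i
  invFun i := ![4, 0, 1, 2, 3, 5, 6] i
  left_inv := by decide
  right_inv := by decide

/-- doubling modulo five, with a transposition -/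
def double5 : Perm (Fin 7) where
  toFun i := ![0, 2, 4, 1, 3, 6, 5] i
  invFun i := ![0, 3, 1, 4, 2, 6, 5] i
  left_inv := by decide
  right_inv := by decide

/-- **degree seven needs an automizer of order four** -/
theorem five_sections {G : Type*} [Group G] [Finite G] {r k : ℕ} (hG : AutoExp G 5 k)
    (hk : ¬ 4 ∣ k) (H : Subgroup G) (φ : ↥H →* alternatingGroup (Fin r)) (hφ : Function.Surjective φ) :
    r ≤ 6 := by
  haveI : Fact (Nat.Prime 5) := ⟨by norm_num⟩
  by_contra hr
  obtain ⟨x, y, hx, hy, hne⟩ := not_commute_witness (r := r) (k := k) (p := 5) (a := 7) (by omega) five double5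
    (by decide +kernel) (by decide +kernel) 2 (by decide +kernel) (by decide +kernel) (by
      have h4 : double5 ^ 4 = 1 := by decide +kernel
      rw [pow_eq_pow_mod k h4]
      rcases (show k % 4 = 1 ∨ k % 4 = 2 ∨ k % 4 = 3 by omega) with e | e | e <;> rw [e] <;> decide +kernel)
  exact hne (commute_pow_of_section hG φ hφ (n := 1) (by simpa using hx) hy)

/-- sections move along injective maps -/
theorem section_map {X G A : Type*} [Group X] [Group G] [Group A] (ψ : X →* G) (hψ : Function.Injective ψ)
    (φ : X →* A) (hφ : Function.Surjective φ) :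
    ∃ (H : Subgroup G) (φ' : ↥H →* A), Function.Surjective φ' :=
  ⟨ψ.range, φ.comp (MonoidHom.ofInjective hψ).symm.toMonoidHom,
    hφ.comp (MonoidHom.ofInjective hψ).symm.surjective⟩

end CfsgLib.Chev.AltSect
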