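/-
No section of degree eight when every involution has a fixed space of one dimension that is too large for four of them
and involution centralisers have no section of degree seven.
-/
import Cfsg.Agent.Lib.Chev.AltSect.Witness
import Mathlib.LinearAlgebra.FiniteDimensional.Lemmas
import Mathlib.GroupTheory.Perm.Finite
import Mathlib.Tactic.Module

set_option autoImplicit false

namespace CfsgLib.Chev.AltSect

open Equiv Module

section Count

variable {F V : Type*} [Field F] [AddCommGroup V] [Module F V] [FiniteDimensional F V]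

/-- fixed vectors -/
def fixS (a : Module.End F V) : Submodule F V := LinearMap.ker (a - 1)

/-- reversed vectors -/
def negS (a : Module.End F V) : Submodule F V := LinearMap.ker (a + 1)

lemma mem_fixS {a : Module.End F V} {v : V} : v ∈ fixS a ↔ a v = v := by
  simp [fixS, LinearMap.mem_ker, sub_eq_zero]

lemma mem_negS {a : Module.End F V} {v : V} : v ∈ negS a ↔ a v = -v := by
  simp [negS, LinearMap.mem_ker, add_eq_zero_iff_eq_neg]

lemma finrank_split (h2 : (2 : F) ≠ 0) {U : Submodule F V} {a : Module.End F V} (ha : a * a = 1)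
    (hU : ∀ v ∈ U, a v ∈ U) :
    finrank F U = finrank F (U ⊓ fixS a : Submodule F V) + finrank F (U ⊓ negS a : Submodule F V) := by
  have haa : ∀ v, a (a v) = v := fun v => by
    rw [← Module.End.mul_apply, ha, Module.End.one_apply]
  have hsup : (U ⊓ fixS a) ⊔ (U ⊓ negS a) = U := by
    refine le_antisymm (sup_le inf_le_left inf_le_left) fun v hv => ?_
    have e : v = (2⁻¹ : F) • (v + a v) + (2⁻¹ : F) • (v - a v) := by
      rw [← smul_add, show v + a v + (v - a v) = (2 : F) • v by module, smul_smul, inv_mul_cancel₀ h2,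
        one_smul]
    rw [e]
    refine Submodule.add_mem_sup ⟨U.smul_mem _ (U.add_mem hv (hU v hv)), ?_⟩
      ⟨U.smul_mem _ (U.sub_mem hv (hU v hv)), ?_⟩
    · rw [SetLike.mem_coe, mem_fixS, map_smul, map_add, haa, add_comm]
    · rw [SetLike.mem_coe, mem_negS, map_smul, map_sub, haa, ← smul_neg, neg_sub]
  have hinf : (U ⊓ fixS a) ⊓ (U ⊓ negS a) = ⊥ := by
    rw [eq_bot_iff]
    rintro v ⟨⟨-, h1⟩, -, h3⟩
    rw [SetLike.mem_coe, mem_fixS] at h1
    rw [SetLike.mem_coe, mem_negS, h1] at h3
    have : (2 : F) • v = 0 := by rw [two_smul]; nth_rw 2 [h3]; exact add_neg_cancel v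
    simpa [h2] using this
  have := Submodule.finrank_sup_add_finrank_inf_eq (U ⊓ fixS a) (U ⊓ negS a)
  rw [hsup, hinf, finrank_bot, add_zero] at this
  exact this

/-- the count for a four group -/
theorem finrank_four (h2 : (2 : F) ≠ 0) {U : Submodule F V} {a b : Module.End F V} (ha : a * a = 1)
    (hb : b * b = 1) (hab : a * b = b * a) (hUa : ∀ v ∈ U, a v ∈ U) (hUb : ∀ v ∈ U, b v ∈ U) :
    finrank F (U ⊓ fixS a : Submodule F V) + finrank F (U ⊓ fixS b : Submodule F V) +
        finrank F (U ⊓ fixS (a * b) : Submodule F V) =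
      finrank F U + 2 * finrank F (U ⊓ fixS a ⊓ fixS b : Submodule F V) := by
  have hc : ∀ v, a (b v) = b (a v) := fun v => by
    rw [← Module.End.mul_apply, hab, Module.End.mul_apply]
  have haa : ∀ v, a (a v) = v := fun v => by rw [← Module.End.mul_apply, ha, Module.End.one_apply]
  have hbb : ∀ v, b (b v) = v := fun v => by rw [← Module.End.mul_apply, hb, Module.End.one_apply]
  have mFa : ∀ v ∈ U ⊓ fixS a, b v ∈ U ⊓ fixS a := fun v hv => ⟨hUb v hv.1, by
    rw [SetLike.mem_coe, mem_fixS, hc, mem_fixS.1 hv.2]⟩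
  have mNa : ∀ v ∈ U ⊓ negS a, b v ∈ U ⊓ negS a := fun v hv => ⟨hUb v hv.1, by
    rw [SetLike.mem_coe, mem_negS, hc, mem_negS.1 hv.2, map_neg]⟩
  have mFb : ∀ v ∈ U ⊓ fixS b, a v ∈ U ⊓ fixS b := fun v hv => ⟨hUa v hv.1, by
    rw [SetLike.mem_coe, mem_fixS, ← hc, mem_fixS.1 hv.2]⟩
  have mFab : ∀ v ∈ U ⊓ fixS (a * b), a v ∈ U ⊓ fixS (a * b) := fun v hv => ⟨hUa v hv.1, by
    have := mem_fixS.1 hv.2
    rw [Module.End.mul_apply] at this
    rw [SetLike.mem_coe, mem_fixS, Module.End.mul_apply, ← hc, this]⟩
  have e1 := finrank_split h2 ha hUa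
  have e2 := finrank_split h2 hb mFa
  have e3 := finrank_split h2 hb mNa
  have e4 := finrank_split h2 ha mFb
  have e5 := finrank_split h2 ha mFab
  have s1 : U ⊓ fixS b ⊓ fixS a = U ⊓ fixS a ⊓ fixS b := inf_right_comm _ _ _
  have s2 : U ⊓ fixS b ⊓ negS a = U ⊓ negS a ⊓ fixS b := inf_right_comm _ _ _
  have s3 : U ⊓ fixS (a * b) ⊓ fixS a = U ⊓ fixS a ⊓ fixS b := by
    ext v
    simp only [Submodule.mem_inf, mem_fixS, Module.End.mul_apply]
    constructor
    · rintro ⟨⟨h0, h1⟩, h3⟩
      exact ⟨⟨h0, h3⟩, by rw [← haa (b v), h1, h3]⟩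
    · rintro ⟨⟨h0, h1⟩, h3⟩
      exact ⟨⟨h0, by rw [h3, h1]⟩, h1⟩
  have s4 : U ⊓ fixS (a * b) ⊓ negS a = U ⊓ negS a ⊓ negS b := by
    ext v
    simp only [Submodule.mem_inf, mem_fixS, mem_negS, Module.End.mul_apply]
    constructor
    · rintro ⟨⟨h0, h1⟩, h3⟩
      exact ⟨⟨h0, h3⟩, by rw [← haa (b v), h1, h3]⟩
    · rintro ⟨⟨h0, h1⟩, h3⟩
      exact ⟨⟨h0, by rw [h3, map_neg, h1, neg_neg]⟩, h1⟩
  rw [s1, s2] at e4
  rw [s3, s4] at e5
  omega

variable {G : Type*} [Group G] (ρ : G →* Module.End F V)
  {n f n2 n3 : ℕ} (hnum : 3 * f = n + 2 * n2 ∧ 3 * n2 = f + 2 * n3 ∧ 3 * n3 < n2)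
  (hdim : finrank F V = n) (hfix : ∀ g : G, g * g = 1 → g ≠ 1 → finrank F (fixS (ρ g)) = f)
  (h2 : (2 : F) ≠ 0)
include hnum hdim hfix h2

lemma fix_pair {a b : G} (ha : a * a = 1) (hb : b * b = 1) (hab : a * b = b * a) (a1 : a ≠ 1)
    (b1 : b ≠ 1) (ne : a ≠ b) : finrank F (fixS (ρ a) ⊓ fixS (ρ b) : Submodule F V) = n2 := by
  have hm : (a * b) * (a * b) = 1 := by
    rw [show a * b * (a * b) = a * (b * a) * b by group, ← hab,
      show a * (a * b) * b = (a * a) * (b * b) by group, ha, hb, one_mul]
  have h1 : a * b ≠ 1 := fun e => ne (by rw [← mul_one a, ← hb, ← mul_assoc, e, one_mul])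
  have := finrank_four h2 (U := ⊤) (a := ρ a) (b := ρ b) (by rw [← map_mul, ha, map_one])
    (by rw [← map_mul, hb, map_one]) (by rw [← map_mul, hab, map_mul]) (fun _ _ => trivial) (fun _ _ => trivial)
  rw [top_inf_eq, top_inf_eq, top_inf_eq, finrank_top, ← map_mul, hfix a ha a1, hfix b hb b1,
    hfix _ hm h1, hdim] at this
  omega

lemma fix_triple {a b c : G} (ha : a * a = 1) (hb : b * b = 1) (hc : c * c = 1) (hab : a * b = b * a)
    (hac : a * c = c * a) (hbc : b * c = c * b) (a1 : a ≠ 1) (b1 : b ≠ 1) (c1 : c ≠ 1) (ab : a ≠ b)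
    (ac : a ≠ c) (bc : b ≠ c) (abc : a ≠ b * c) :
    finrank F (fixS (ρ a) ⊓ fixS (ρ b) ⊓ fixS (ρ c) : Submodule F V) = n3 := by
  have hm : (b * c) * (b * c) = 1 := by
    rw [show b * c * (b * c) = b * (c * b) * c by group, ← hbc,
      show b * (b * c) * c = (b * b) * (c * c) by group, hb, hc, one_mul]
  have h1 : b * c ≠ 1 := fun e => bc (by rw [← mul_one b, ← hc, ← mul_assoc, e, one_mul])
  have hcm : a * (b * c) = (b * c) * a := by rw [← mul_assoc, hab, mul_assoc, hac, mul_assoc]
  have inv : ∀ x : G, a * x = x * a → ∀ v ∈ fixS (ρ a), ρ x v ∈ fixS (ρ a) := fun x hx v hv => by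
    rw [mem_fixS, ← Module.End.mul_apply, ← map_mul, hx, map_mul, Module.End.mul_apply, mem_fixS.1 hv]
  have := finrank_four h2 (U := fixS (ρ a)) (a := ρ b) (b := ρ c) (by rw [← map_mul, hb, map_one])
    (by rw [← map_mul, hc, map_one]) (by rw [← map_mul, hbc, map_mul]) (inv b hab) (inv c hac)
  rw [← map_mul, fix_pair ρ hnum hdim hfix h2 ha hb hab a1 b1 ab, fix_pair ρ hnum hdim hfix h2 ha hc hac a1 c1 ac,
    fix_pair ρ hnum hdim hfix h2 ha hm hcm a1 h1 abc, hfix a ha a1] at this
  omega

/-- the products of four elements -/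
def prod4 {M : Type*} [Monoid M] (a b c d : M) (i j k l : Bool) : M :=
  (if i then a else 1) * (if j then b else 1) * (if k then c else 1) * (if l then d else 1)

/-- **no elementary group of order sixteen** -/
theorem no_sixteen {a b c d : G} (ha : a * a = 1) (hb : b * b = 1) (hc : c * c = 1) (hd : d * d = 1)
    (hab : a * b = b * a) (hac : a * c = c * a) (had : a * d = d * a) (hbc : b * c = c * b)
    (hbd : b * d = d * b) (hcd : c * d = d * c)
    (hind : ∀ i j k l, prod4 a b c d i j k l = 1 → i = false ∧ j = false ∧ k = false ∧ l = false) :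
    False := by
  have eqv : ∀ {x y : G}, y * y = 1 → x = y → x * y = 1 := fun {x y} hy e => by rw [e, hy]
  have a1 : a ≠ 1 := fun e => by simpa using hind true false false false (by simp [prod4, e])
  have b1 : b ≠ 1 := fun e => by simpa using hind false true false false (by simp [prod4, e])
  have c1 : c ≠ 1 := fun e => by simpa using hind false false true false (by simp [prod4, e])
  have d1 : d ≠ 1 := fun e => by simpa using hind false false false true (by simp [prod4, e])
  have ab : a ≠ b := fun e => by simpa using hind true true false false (by simp [prod4, eqv hb e])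
  have ac : a ≠ c := fun e => by simpa using hind true false true false (by simp [prod4, eqv hc e])
  have ad : a ≠ d := fun e => by simpa using hind true false false true (by simp [prod4, eqv hd e])
  have bc : b ≠ c := fun e => by simpa using hind false true true false (by simp [prod4, eqv hc e])
  have bd : b ≠ d := fun e => by simpa using hind false true false true (by simp [prod4, eqv hd e])
  have cd : c ≠ d := fun e => by simpa using hind false false true true (by simp [prod4, eqv hd e])
  have hcd2 : (c * d) * (c * d) = 1 := by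
    rw [show c * d * (c * d) = c * (d * c) * d by group, ← hcd,
      show c * (c * d) * d = (c * c) * (d * d) by group, hc, hd, one_mul]
  have cd1 : c * d ≠ 1 := fun e => by simpa using hind false false true true (by simpa [prod4] using e)
  have a_cd : a ≠ c * d := fun e => by
    simpa using hind true false true true (by simp [prod4, mul_assoc, eqv hcd2 e])
  have b_cd : b ≠ c * d := fun e => by
    simpa using hind false true true true (by simp [prod4, mul_assoc, eqv hcd2 e])
  have a_bc : a ≠ b * c := fun e => by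
    simpa using hind true true true false (by
      simp only [prod4, if_true, mul_one, Bool.false_eq_true, if_false]
      rw [mul_assoc, ← e, ha])
  have a_bd : a ≠ b * d := fun e => by
    simpa using hind true true false true (by
      simp only [prod4, if_true, mul_one, Bool.false_eq_true, if_false]
      rw [mul_assoc, ← e, ha])
  have a_bcd : a ≠ b * (c * d) := fun e => by
    simpa using hind true true true true (by
      simp only [prod4, if_true]
      rw [mul_assoc, mul_assoc, ← e, ha])
  have hacd : a * (c * d) = c * d * a := by rw [← mul_assoc, hac, mul_assoc, had, mul_assoc]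
  have hbcd : b * (c * d) = c * d * b := by rw [← mul_assoc, hbc, mul_assoc, hbd, mul_assoc]
  have inv : ∀ x : G, a * x = x * a → b * x = x * b →
      ∀ v ∈ fixS (ρ a) ⊓ fixS (ρ b), ρ x v ∈ fixS (ρ a) ⊓ fixS (ρ b) := fun x hx hx' v hv => by
    refine ⟨?_, ?_⟩
    · rw [SetLike.mem_coe, mem_fixS, ← Module.End.mul_apply, ← map_mul, hx, map_mul, Module.End.mul_apply, mem_fixS.1 hv.1]
    · rw [SetLike.mem_coe, mem_fixS, ← Module.End.mul_apply, ← map_mul, hx', map_mul, Module.End.mul_apply, mem_fixS.1 hv.2]
  have := finrank_four h2 (U := fixS (ρ a) ⊓ fixS (ρ b)) (a := ρ c) (b := ρ d) (by rw [← map_mul, hc, map_one])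
    (by rw [← map_mul, hd, map_one]) (by rw [← map_mul, hcd, map_mul]) (inv c hac hbc) (inv d had hbd)
  rw [← map_mul, fix_pair ρ hnum hdim hfix h2 ha hb hab a1 b1 ab,
    fix_triple ρ hnum hdim hfix h2 ha hb hc hab hac hbc a1 b1 c1 ab ac bc a_bc,
    fix_triple ρ hnum hdim hfix h2 ha hb hd hab had hbd a1 b1 d1 ab ad bd a_bd,
    fix_triple ρ hnum hdim hfix h2 ha hb hcd2 hab hacd hbcd a1 b1 cd1 ab a_cd b_cd a_bcd] at this
  omega

/-- elementary abelian subgroups have order at most eight -/
theorem card_le_eight [Finite G] (E : Subgroup G) (hE : ∀ x ∈ E, x * x = 1) : Nat.card E ≤ 8 := by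
  classical
  by_contra hlt
  haveI := Fintype.ofFinite E
  rw [Nat.card_eq_fintype_card] at hlt
  have sq : ∀ x : E, x * x = 1 := fun x => Subtype.ext (hE x x.2)
  have comm : ∀ x y : E, x * y = y * x := fun x y => by
    calc x * y = (y * x)⁻¹ * ((y * x) * (x * y)) := by group
      _ = (y * x) * ((y * x) * (x * y)) := by rw [inv_eq_of_mul_eq_one_right (sq (y * x))]
      _ = y * x := by rw [show (y * x) * (x * y) = y * (x * x) * y by group, sq, mul_one, sq, mul_one]
  have pick : ∀ s : Finset E, s.card ≤ 8 → ∃ x, x ∉ s := fun s hs => by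
    by_contra hall
    push Not at hall
    have := Finset.card_le_card (show (Finset.univ : Finset E) ⊆ s from fun x _ => hall x)
    rw [Finset.card_univ] at this
    omega
  obtain ⟨a, ha⟩ := pick {1} (by simp)
  obtain ⟨b, hb⟩ := pick {1, a} (le_trans Finset.card_le_two (by norm_num))
  obtain ⟨c, hc⟩ := pick ([1, a, b, a * b].toFinset) (le_trans (List.toFinset_card_le _) (by norm_num))
  obtain ⟨d, hd⟩ := pick ([1, a, b, a * b, c, a * c, b * c, a * b * c].toFinset)
    (le_trans (List.toFinset_card_le _) (by norm_num))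
  simp only [List.mem_toFinset, List.mem_cons, List.not_mem_nil, or_false, not_or,
    Finset.mem_singleton, Finset.mem_insert] at ha hb hc hd
  have solve : ∀ {x y : E}, x * y = 1 → y = x := fun {x y} e =>
    calc y = (x * x) * y := by rw [sq, one_mul]
      _ = x := by rw [mul_assoc, e, mul_one]
  refine no_sixteen ρ hnum hdim hfix h2 (a := (a : G)) (b := (b : G)) (c := (c : G)) (d := (d : G)) (hE a a.2)
    (hE b b.2) (hE c c.2) (hE d d.2) (congrArg Subtype.val (comm a b)) (congrArg Subtype.val (comm a c))
    (congrArg Subtype.val (comm a d)) (congrArg Subtype.val (comm b c)) (congrArg Subtype.val (comm b d))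
    (congrArg Subtype.val (comm c d)) fun i j k l e => ?_
  have e' : prod4 a b c d i j k l = 1 := Subtype.ext (by
    refine Eq.trans ?_ e
    cases i <;> cases j <;> cases k <;> cases l <;> simp [prod4])
  cases l with
  | true =>
    exfalso
    simp only [prod4, if_true] at e'
    have := solve e'
    revert this
    cases i <;> cases j <;> cases k <;> simp [hd]
  | false =>
    simp only [prod4, Bool.false_eq_true, if_false, mul_one] at e'
    cases k with
    | true =>
      exfalso
      simp only [if_true] at e'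
      have := solve e'
      revert this
      cases i <;> cases j <;> simp [hc]
    | false =>
      simp only [Bool.false_eq_true, if_false, mul_one] at e'
      cases j with
      | true =>
        exfalso
        simp only [if_true] at e'
        have := solve e'
        revert this
        cases i <;> simp [hb]
      | false => cases i <;> simp_all

end Count

end CfsgLib.Chev.AltSect
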