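/-
No alternating section of degree eight: the group theoretical half.
-/
import Cfsg.Agent.Lib.Chev.AltSect.Eight
import Mathlib.GroupTheory.Perm.Sign
import Mathlib.GroupTheory.SpecificGroups.Alternating.Simple

set_option autoImplicit false

namespace CfsgLib.Chev.AltSect

open Equiv
open scoped Pointwise

/-- four commuting involutions in degree eight -/
def va : alternatingGroup (Fin 8) := ⟨Equiv.swap 0 1 * Equiv.swap 2 3, Equiv.Perm.mem_alternatingGroup.2 (by decide +kernel)⟩
/-- four commuting involutions in degree eight -/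
def vb : alternatingGroup (Fin 8) := ⟨Equiv.swap 0 2 * Equiv.swap 1 3, Equiv.Perm.mem_alternatingGroup.2 (by decide +kernel)⟩
/-- four commuting involutions in degree eight -/
def vc : alternatingGroup (Fin 8) := ⟨Equiv.swap 4 5 * Equiv.swap 6 7, Equiv.Perm.mem_alternatingGroup.2 (by decide +kernel)⟩
/-- four commuting involutions in degree eight -/
def vd : alternatingGroup (Fin 8) := ⟨Equiv.swap 4 6 * Equiv.swap 5 7, Equiv.Perm.mem_alternatingGroup.2 (by decide +kernel)⟩

theorem vee_ok : va * va = 1 ∧ vb * vb = 1 ∧ vc * vc = 1 ∧ vd * vd = 1 ∧ va * vb = vb * va ∧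
    va * vc = vc * va ∧ va * vd = vd * va ∧ vb * vc = vc * vb ∧ vb * vd = vd * vb ∧ vc * vd = vd * vc ∧
    ∀ i j k l, prod4 va vb vc vd i j k l = 1 → i = false ∧ j = false ∧ k = false ∧ l = false := by
  decide +kernel

variable {F V : Type*} [Field F] [AddCommGroup V] [Module F V] [FiniteDimensional F V]
  {G : Type*} [Group G] [Finite G] (ρ : G →* Module.End F V)
  {n f n2 n3 : ℕ} (hnum : 3 * f = n + 2 * n2 ∧ 3 * n2 = f + 2 * n3 ∧ 3 * n3 < n2)
  (hdim : Module.finrank F V = n)
  (hfix : ∀ g : G, g * g = 1 → g ≠ 1 → Module.finrank F (fixS (ρ g)) = f) (h2 : (2 : F) ≠ 0)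
  (hcent : ∀ z : G, z * z = 1 → z ≠ 1 → ∀ (H : Subgroup G), (∀ h ∈ H, h * z = z * h) →
    ∀ (r : ℕ) (φ : ↥H →* alternatingGroup (Fin r)), Function.Surjective φ → r ≤ 6)
include hnum hdim hfix h2 hcent

/-- no section of degree eight -/
theorem not_eight (H : Subgroup G) (φ : ↥H →* alternatingGroup (Fin 8)) (hφ : Function.Surjective φ) :
    False := by
  classical
  induction hn : Nat.card H using Nat.strong_induction_on generalizing H with
  | _ m ih =>
    subst hn
    have hmin : ∀ M : Subgroup ↥H, M.map φ = ⊤ → M = ⊤ := by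
      intro M hM
      by_contra hne
      have hlt : Nat.card (M.map H.subtype) < Nat.card H := by
        rw [Subgroup.card_map_of_injective H.subtype_injective]
        exact lt_of_le_of_ne (Subgroup.card_le_card_group M) (fun e => hne (Subgroup.eq_top_of_card_eq _ e))
      refine ih _ hlt _ ((φ.comp M.subtype).comp
        (Subgroup.equivMapOfInjective M H.subtype H.subtype_injective).symm.toMonoidHom) ?_ rfl
      intro x
      obtain ⟨m, hm, e⟩ := (hM ▸ Subgroup.mem_top x : x ∈ M.map φ)
      exact ⟨Subgroup.equivMapOfInjective M H.subtype H.subtype_injective ⟨m, hm⟩, by simp [e]⟩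
    set K := φ.ker
    haveI : Fact (Nat.Prime 2) := ⟨Nat.prime_two⟩
    obtain ⟨P⟩ : Nonempty (Sylow 2 ↥K) := inferInstance
    set PH : Subgroup ↥H := (P : Subgroup ↥K).map K.subtype with hPH
    by_cases hP : PH = ⊥
    · -- lift the four involutions
      have hPb : (P : Subgroup ↥K) = ⊥ := (Subgroup.map_eq_bot_iff_of_injective _ K.subtype_injective).1 hP
      set E : Subgroup (alternatingGroup (Fin 8)) := Subgroup.closure {va, vb, vc, vd}
      obtain ⟨ha, hb, hc, hd, hab, hac, had, hbc, hbd, hcd, hind⟩ := vee_ok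
      have hEc : ∀ x ∈ E, ∀ y ∈ E, x * y = y * x := by
        intro x hx y hy
        haveI : IsMulCommutative ↥E := Subgroup.isMulCommutative_closure (by
          intro u hu v hv
          simp only [Set.mem_insert_iff, Set.mem_singleton_iff] at hu hv
          rcases hu with rfl | rfl | rfl | rfl <;> rcases hv with rfl | rfl | rfl | rfl <;>
            simp only [hab, hac, had, hbc, hbd, hcd])
        exact congrArg Subtype.val (mul_comm' (⟨x, hx⟩ : ↥E) ⟨y, hy⟩)
      have hE2 : ∀ x ∈ E, x * x = 1 := by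
        intro x hx
        induction hx using Subgroup.closure_induction with
        | mem u hu =>
          simp only [Set.mem_insert_iff, Set.mem_singleton_iff] at hu
          rcases hu with rfl | rfl | rfl | rfl <;> assumption
        | one => rw [mul_one]
        | mul u v hu hv hu2 hv2 =>
          rw [show u * v * (u * v) = u * (v * u) * v by group, hEc v hv u hu,
            show u * (u * v) * v = (u * u) * (v * v) by group, hu2, hv2, one_mul]
        | inv u _ hu2 => rw [← _root_.mul_inv_rev, hu2, inv_one]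
      set M : Subgroup ↥H := E.comap φ
      let ψ : ↥M →* ↥E := φ.subgroupComap E
      have hψ : Function.Surjective ψ := by
        rintro ⟨z, hz⟩
        obtain ⟨z0, rfl⟩ := hφ z
        exact ⟨⟨z0, hz⟩, rfl⟩
      obtain ⟨S⟩ : Nonempty (Sylow 2 ↥M) := inferInstance
      have hEp : IsPGroup 2 ↥E := fun x => ⟨1, Subtype.ext (by
        simpa [pow_two] using hE2 x x.2)⟩
      have hQ : ((S.mapSurjective hψ : Sylow 2 ↥E) : Subgroup ↥E) = ⊤ :=
        ((S.mapSurjective hψ).3 (Q := ⊤) (hEp.of_equiv Subgroup.topEquiv.symm) le_top).symm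
      have hinj : ∀ s ∈ (S : Subgroup ↥M), φ s = 1 → s = 1 := by
        intro s hs h1
        have hp : IsPGroup 2 ↥(Subgroup.zpowers (⟨(s : ↥H), h1⟩ : ↥K)) := by
          obtain ⟨j, hj⟩ := S.2 ⟨s, hs⟩
          have hj' : (⟨(s : ↥H), h1⟩ : ↥K) ^ 2 ^ j = 1 :=
            Subtype.ext (congrArg (fun z : ↥S => ((z : ↥M) : ↥H)) hj)
          obtain ⟨i, -, hi⟩ := (Nat.dvd_prime_pow (Fact.out : Nat.Prime 2)).1 (orderOf_dvd_of_pow_eq_one hj')
          exact IsPGroup.of_card (n := i) (by rw [Nat.card_zpowers, hi])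
        obtain ⟨R, hR⟩ := hp.exists_le_sylow
        obtain ⟨g, hg⟩ := MulAction.exists_smul_eq ↥K P R
        have : (R : Subgroup ↥K) = ⊥ := by
          rw [← hg, Sylow.coe_subgroup_smul, hPb, Subgroup.smul_bot]
        rw [this, Subgroup.zpowers_le, Subgroup.mem_bot] at hR
        exact Subtype.ext (congrArg (fun z : ↥K => (z : ↥H)) hR)
      have lift : ∀ x ∈ E, ∃ s ∈ (S : Subgroup ↥M), φ s = x := by
        intro x hx
        obtain ⟨s, hs, e⟩ := (hQ ▸ Subgroup.mem_top _ : (⟨x, hx⟩ : ↥E) ∈ ((S.mapSurjective hψ : Sylow 2 ↥E) : Subgroup ↥E))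
        exact ⟨s, hs, congrArg Subtype.val e⟩
      have heq : ∀ s ∈ (S : Subgroup ↥M), ∀ t ∈ (S : Subgroup ↥M), φ s = φ t → s = t := by
        intro s hs t ht e
        have := hinj (s * t⁻¹) (mul_mem hs (inv_mem ht)) (by
          rw [Subgroup.coe_mul, Subgroup.coe_inv, map_mul, map_inv, e, mul_inv_cancel])
        exact mul_inv_eq_one.1 this
      obtain ⟨a, haS, ea⟩ := lift va (Subgroup.subset_closure (by simp))
      obtain ⟨b, hbS, eb⟩ := lift vb (Subgroup.subset_closure (by simp))
      obtain ⟨c, hcS, ec⟩ := lift vc (Subgroup.subset_closure (by simp))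
      obtain ⟨d, hdS, ed⟩ := lift vd (Subgroup.subset_closure (by simp))
      have sq : ∀ s ∈ (S : Subgroup ↥M), ∀ x, φ s = x → x * x = 1 → s * s = 1 := fun s hs x e h1 =>
        heq _ (mul_mem hs hs) _ (one_mem _) (by simp [e, h1])
      have cm : ∀ s ∈ (S : Subgroup ↥M), ∀ t ∈ (S : Subgroup ↥M), ∀ x y, φ s = x → φ t = y →
          x * y = y * x → s * t = t * s := fun s hs t ht x y e e' h1 =>
        heq _ (mul_mem hs ht) _ (mul_mem ht hs) (by simp [e, e', h1])
      let ι : ↥M →* G := H.subtype.comp M.subtype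
      have hι : Function.Injective ι := H.subtype_injective.comp M.subtype_injective
      refine no_sixteen ρ hnum hdim hfix h2 (a := ι a) (b := ι b) (c := ι c) (d := ι d)
        (by rw [← map_mul, sq a haS _ ea ha, map_one]) (by rw [← map_mul, sq b hbS _ eb hb, map_one])
        (by rw [← map_mul, sq c hcS _ ec hc, map_one]) (by rw [← map_mul, sq d hdS _ ed hd, map_one])
        (by rw [← map_mul, ← map_mul, cm a haS b hbS _ _ ea eb hab])
        (by rw [← map_mul, ← map_mul, cm a haS c hcS _ _ ea ec hac])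
        (by rw [← map_mul, ← map_mul, cm a haS d hdS _ _ ea ed had])
        (by rw [← map_mul, ← map_mul, cm b hbS c hcS _ _ eb ec hbc])
        (by rw [← map_mul, ← map_mul, cm b hbS d hdS _ _ eb ed hbd])
        (by rw [← map_mul, ← map_mul, cm c hcS d hdS _ _ ec ed hcd]) fun i j k l e => ?_
      refine hind i j k l ?_
      have e1 : ι (prod4 a b c d i j k l) = ι 1 := by
        rw [map_one, ← e]
        simp only [prod4, map_mul]
        cases i <;> cases j <;> cases k <;> cases l <;> simp
      have e2 := congrArg (fun z : ↥M => φ z) (hι e1)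
      simp only [prod4] at e2 ⊢
      cases i <;> cases j <;> cases k <;> cases l <;> simpa [ea, eb, ec, ed] using e2
    · -- a central involution
      have hfr := Sylow.normalizer_sup_eq_top P
      have hNtop : Subgroup.normalizer (PH : Set ↥H) = ⊤ := hmin _ (by
        have := congrArg (Subgroup.map φ) hfr
        rw [Subgroup.map_sup, Subgroup.map_top_of_surjective φ hφ,
          (Subgroup.map_eq_bot_iff _).2 le_rfl, sup_bot_eq] at this
        exact this)
      have hPHp : IsPGroup 2 ↥PH := P.2.map _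
      have hconj : ∀ (h : ↥H) (x : ↥H), x ∈ PH → h * x * h⁻¹ ∈ PH := fun h x hx =>
        (Subgroup.mem_normalizer_iff.1 (hNtop ▸ Subgroup.mem_top h) x).1 hx
      let Z : Subgroup ↥H :=
        { carrier := {x | x ∈ PH ∧ (∀ y ∈ PH, y * x = x * y) ∧ x * x = 1}
          one_mem' := ⟨one_mem _, fun y _ => by simp, by simp⟩
          mul_mem' := fun {x y} hx hy => ⟨mul_mem hx.1 hy.1,
            fun z hz => by rw [← mul_assoc, hx.2.1 z hz, mul_assoc, hy.2.1 z hz, mul_assoc], by
              rw [show x * y * (x * y) = x * (y * x) * y by group, hx.2.1 y hy.1,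
                show x * (x * y) * y = (x * x) * (y * y) by group, hx.2.2, hy.2.2, one_mul]⟩
          inv_mem' := fun {x} hx => by rw [inv_eq_of_mul_eq_one_right hx.2.2]; exact hx }
      have hZc : ∀ (h x : ↥H), x ∈ Z → h * x * h⁻¹ ∈ Z := by
        rintro h x ⟨h1, h3, h4⟩
        refine ⟨hconj h x h1, fun y hy => ?_, ?_⟩
        · have := h3 (h⁻¹ * y * h) (by simpa using hconj h⁻¹ y hy)
          calc y * (h * x * h⁻¹) = h * (h⁻¹ * y * h * x) * h⁻¹ := by group
            _ = h * (x * (h⁻¹ * y * h)) * h⁻¹ := by rw [this]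
            _ = _ := by group
        · rw [show h * x * h⁻¹ * (h * x * h⁻¹) = h * (x * x) * h⁻¹ by group, h4, mul_one, mul_inv_cancel]
      obtain ⟨z, hzZ, hz1⟩ : ∃ z ∈ Z, z ≠ 1 := by
        haveI : Nontrivial ↥PH := (Subgroup.nontrivial_iff_ne_bot _).2 hP
        haveI := hPHp.center_nontrivial
        obtain ⟨w, hw1⟩ := exists_ne (1 : ↥(Subgroup.center ↥PH))
        have hdvd : 2 ∣ Nat.card ↥(Subgroup.center ↥PH) := by
          obtain ⟨j, hj⟩ := (hPHp.to_subgroup (Subgroup.center ↥PH)).exists_card_eq
          rw [hj]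
          refine dvd_pow_self 2 fun e => ?_
          rw [e, pow_zero] at hj
          exact hw1 ((Nat.card_eq_one_iff_unique.1 hj).1.elim w 1)
        obtain ⟨v, hv⟩ := exists_prime_orderOf_dvd_card' 2 hdvd
        refine ⟨v.1.1, ⟨v.1.2, fun y hy => congrArg Subtype.val (Subgroup.mem_center_iff.1 v.2 ⟨y, hy⟩),
          ?_⟩, fun e => ?_⟩
        · have := pow_orderOf_eq_one v
          rw [hv, pow_two] at this
          exact congrArg (fun z : ↥(Subgroup.center ↥PH) => z.1.1) this
        · rw [show v = 1 from Subtype.ext (Subtype.ext e), orderOf_one] at hv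
          omega
      have hZ8 : Nat.card Z ≤ 8 := by
        rw [← Subgroup.card_map_of_injective (f := H.subtype) H.subtype_injective]
        refine card_le_eight ρ hnum hdim hfix h2 _ ?_
        rintro _ ⟨x, hx, rfl⟩
        rw [← map_mul, hx.2.2, map_one]
      -- the action on the involutions of `Z`
      let act : ↥H →* Perm {x : ↥H // x ∈ Z ∧ x ≠ 1} :=
        { toFun := fun h =>
            { toFun := fun x => ⟨h * x * h⁻¹, hZc h _ x.2.1, fun e => x.2.2 (conj_eq_one_iff.1 e)⟩
              invFun := fun x => ⟨h⁻¹ * x * h, by simpa using hZc h⁻¹ _ x.2.1, fun e => x.2.2 (by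
                have := congrArg (fun z => h * z * h⁻¹) e
                simpa [mul_assoc] using this)⟩
              left_inv := fun x => Subtype.ext (by simp [mul_assoc])
              right_inv := fun x => Subtype.ext (by simp [mul_assoc]) }
          map_one' := by ext; simp
          map_mul' := fun a b => by ext; simp [mul_assoc] }
      haveI : Finite {x : ↥H // x ∈ Z ∧ x ≠ 1} := Subtype.finite
      have hcardZ : Nat.card {x : ↥H // x ∈ Z ∧ x ≠ 1} ≤ 7 := by
        have hlt : Nat.card {x : ↥H // x ∈ Z ∧ x ≠ 1} < Nat.card Z := by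
          haveI := Fintype.ofFinite ↥Z
          haveI := Fintype.ofFinite {x : ↥H // x ∈ Z ∧ x ≠ 1}
          rw [Nat.card_eq_fintype_card, Nat.card_eq_fintype_card]
          exact Fintype.card_lt_of_injective_of_notMem (fun x => (⟨x.1, x.2.1⟩ : ↥Z))
            (fun x y e => Subtype.ext (congrArg (fun z : ↥Z => z.1) e)) (b := 1)
            (by rintro ⟨x, e⟩; exact x.2.2 (congrArg Subtype.val e))
        omega
      haveI : IsSimpleGroup (alternatingGroup (Fin 8)) := alternatingGroup.isSimpleGroup (by simp)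
      rcases (Subgroup.Normal.map (MonoidHom.normal_ker act) φ hφ).eq_bot_or_eq_top with hC | hC
      · have hCK : act.ker ≤ K := (Subgroup.map_eq_bot_iff _).1 hC
        have h1 := Subgroup.index_dvd_of_le hCK
        rw [Subgroup.index_ker, Subgroup.index_ker, MonoidHom.range_eq_top.2 hφ, Subgroup.card_top,
          nat_card_alternatingGroup, Nat.card_eq_fintype_card, Fintype.card_fin] at h1
        have h3 : Nat.card act.range ≤ Nat.factorial 7 := by
          refine (Subgroup.card_le_card_group _).trans ?_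
          rw [Nat.card_perm]
          exact Nat.factorial_le hcardZ
        have h4 := Nat.le_of_dvd Nat.card_pos h1
        norm_num [Nat.factorial] at h3 h4
        omega
      · have hCtop := hmin _ hC
        have hzc : ∀ h ∈ H, h * (z : G) = (z : G) * h := by
          intro h hh
          have h1 : act ⟨h, hh⟩ = 1 := (hCtop ▸ Subgroup.mem_top _ : (⟨h, hh⟩ : ↥H) ∈ act.ker)
          have h3 := congrArg (fun f : Perm _ => ((f ⟨z, hzZ, hz1⟩ : {x : ↥H // x ∈ Z ∧ x ≠ 1}).1 : G)) h1
          simp only [act, MonoidHom.coe_mk, OneHom.coe_mk, Equiv.coe_fn_mk, Perm.one_apply,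
            Subgroup.coe_mul, Subgroup.coe_inv] at h3
          exact mul_inv_eq_iff_eq_mul.1 h3
        have := hcent (z : G) (congrArg Subtype.val hzZ.2.2)
          (fun e => hz1 (Subtype.ext e)) H hzc 8 φ hφ
        omega

/-- alternating sections have degree at most seven -/
theorem sections_le_seven {r : ℕ} (H : Subgroup G) (φ : ↥H →* alternatingGroup (Fin r))
    (hφ : Function.Surjective φ) : r ≤ 7 := by
  by_contra hr
  set X := (altEmb (show 8 ≤ r by omega)).range.comap φ
  let e := MonoidHom.ofInjective (altEmb_injective (show 8 ≤ r by omega))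
  let φ₁ : ↥X →* alternatingGroup (Fin 8) := e.symm.toMonoidHom.comp (φ.subgroupComap _)
  have h1 : Function.Surjective φ₁ := e.symm.surjective.comp (by
    rintro ⟨z, hz⟩
    obtain ⟨z0, rfl⟩ := hφ z
    exact ⟨⟨z0, hz⟩, rfl⟩)
  obtain ⟨H', φ', h'⟩ := section_map (H.subtype.comp X.subtype)
    (H.subtype_injective.comp X.subtype_injective) φ₁ h1
  exact not_eight ρ hnum hdim hfix h2 hcent H' φ' h'

end CfsgLib.Chev.AltSect
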