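/-
The split torus has index prime to `p` when the field is split for `p` and `p` is prime to the Weyl group.
-/
import Cfsg.Agent.Lib.Chev.SylowTori.Num
import Cfsg.Agent.Lib.Chev.SylowTori.Main
import Cfsg.Agent.Lib.Chev.AltSect.Auto

set_option autoImplicit false

namespace CfsgLib.Chev.AltSect

open Cfsg.Lie Matrix CfsgLib.Chev CfsgLib.Chev.SylowTori

universe u

theorem index_split {D : ChevalleyDatum} {A : Aux} {F : Type u} [Field F] [Fintype F] (h : Std D A)
    {lv : List (List Rep)} (hw : checkWeyl D A lv = true)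
    {U Ui V Vi : Matrix (Fin D.rank) (Fin D.rank) ℤ} {d : Fin D.rank → ℕ}
    (hs : smithCheck D A U Ui V Vi d = true) {deg : List ℕ} (hp : poinCheck D.rank lv deg = true)
    (hd : ∀ i, d i ∣ deg.prod) {r : ℕ} [hr : Fact r.Prime] (hrW : ¬ r ∣ deg.prod)
    (hQ : Fintype.card F % r = 1) :
    ¬ r ∣ ((D.diagonalSubgroup F).subgroupOf (D.group F)).index := by
  haveI : Finite (GL D.Idx F) := finite_GL
  set q := Fintype.card F with hq
  have hq2 : 2 ≤ q := Fintype.one_lt_card
  have hrq : ¬ r ∣ q := fun e => by rw [Nat.mod_eq_zero_of_dvd e] at hQ; exact absurd hQ (by norm_num)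
  obtain ⟨hvG, hvT⟩ := val_group (r := r) h hw hs hp hd hrW hq.symm hrq
  have hone : (q : ZMod r) = 1 := by rw [← ZMod.natCast_mod, hQ, Nat.cast_one]
  have hd1 : orderOf (q : ZMod r) = 1 := orderOf_eq_one_iff.2 hone
  have hlen : deg.length = D.rank := by
    simp only [poinCheck, Bool.and_eq_true, decide_eq_true_eq] at hp
    exact hp.1
  have hfil : (deg.filter fun e => orderOf (q : ZMod r) ∣ e).length = D.rank := by
    rw [hd1, List.filter_eq_self.2 (fun a _ => by simp), hlen]
  have hc : cval r q = padicValNat r (q - 1) := by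
    rw [← val_cyclotomic hq2 hrq, hd1, pow_one]
  rw [hfil, hc, ← hvT] at hvG
  have hidx := Subgroup.card_mul_index ((D.diagonalSubgroup F).subgroupOf (D.group F))
  rw [Nat.card_congr (Subgroup.subgroupOfEquivOfLe (diagonalSubgroup_le_group h.good)).toEquiv] at hidx
  rw [← hidx, padicValNat.mul Nat.card_pos.ne' Subgroup.index_ne_zero_of_finite] at hvG
  intro hdvd
  have := one_le_padicValNat_of_dvd Subgroup.index_ne_zero_of_finite hdvd
  omega

end CfsgLib.Chev.AltSect
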