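/-
Alternating sections of the triality twisted groups.
-/
import Cfsg.Agent.Lib.Chev.AltSect.D4Invol
import Cfsg.Agent.Lib.Chev.AltSect.EightMain
import Cfsg.Agent.Lib.Chev.AltSect.Index
import Cfsg.Agent.Lib.Chev.Data.FoldCheckD43
import Mathlib.FieldTheory.Finite.Extension
import Mathlib.LinearAlgebra.Matrix.Rank

set_option autoImplicit false
set_option maxRecDepth 100000

namespace CfsgLib.Chev.AltSect.D4

open Cfsg.Lie Matrix CfsgLib.Chev CfsgLib.Chev.AltSect
open CfsgLib.KnownB.ChevField (group_map_le map_tor map_xG)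

universe u

theorem exp6 : expChk chevD4 auxD4 foldD43 ftabD43 (5 + 1) = true := by decide +kernel

theorem count16 : ∀ v : Fin 16, good v.val = true → (Finset.univ.filter fun s : Fin chevD4.nroots =>
    sg v.val s.val = false).card = 16 := by decide +kernel

variable {K : Type u} [Field K] [Fintype K] {q : ℕ}

lemma pow_q3 (hK : Fintype.card K = q ^ 3) (t : K) : t ^ (q ^ 3) = t := by
  rw [← hK]; exact FiniteField.pow_card t

lemma glmap_inj {L : Type*} [Field L] (ι : K →+* L) :
    Function.Injective (Matrix.GeneralLinearGroup.map (n := chevD4.Idx) ι) := by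
  intro x y e
  refine Units.ext (Matrix.ext fun i j => ι.injective ?_)
  exact congrArg (fun z : GL chevD4.Idx L => (z : Matrix chevD4.Idx chevD4.Idx L) i j) e

/-- outside characteristic five -/
theorem sections_ne_five (hK : Fintype.card K = q ^ 3) (h5 : ¬ 5 ∣ q) {r : ℕ}
    (H : Subgroup ↥(twistedD4 K q)) (φ : ↥H →* alternatingGroup (Fin r)) (hφ : Function.Surjective φ) :
    r ≤ 6 := by
  haveI : Fact (Nat.Prime 5) := ⟨by norm_num⟩
  haveI : NeZero (4 : ℕ) := ⟨by norm_num⟩
  obtain ⟨p, _⟩ := CharP.exists K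
  obtain ⟨n, hp, hn⟩ := FiniteField.card K p
  haveI : Fact p.Prime := ⟨hp⟩
  let L := FiniteField.Extension K p 4
  have hL : Nat.card L = (q ^ 4) ^ 3 := by
    rw [FiniteField.natCard_extension, Nat.card_eq_fintype_card, hK, ← pow_mul, ← pow_mul]
  have hq : 2 ≤ q := CfsgLib.Chev.D43.two_le hK
  have : Finite L := Nat.finite_of_card_ne_zero (by rw [hL]; positivity)
  letI := Fintype.ofFinite L
  haveI : Finite (GL chevD4.Idx L) := finite_GL
  have hLc : Fintype.card L = (q ^ 4) ^ 3 := by rw [← Nat.card_eq_fintype_card, hL]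
  let ι : K →+* L := algebraMap K L
  obtain ⟨a, -, ha⟩ : ∃ a, a ≤ (n : ℕ) ∧ q = p ^ a := (Nat.dvd_prime_pow hp).1 (by
    rw [← hn, hK]; exact dvd_pow_self q (by norm_num))
  haveI : CharP L p := charP_of_injective_algebraMap (algebraMap K L).injective p
  haveI : ExpChar L p := ExpChar.prime hp
  let σ : L →+* L := iterateFrobenius L p (4 * a)
  have hσ : ∀ x, σ x = x ^ q ^ 4 := fun x => by
    simp only [σ, iterateFrobenius_def]
    rw [ha, ← pow_mul, mul_comm]
  have hσι : ∀ t : K, σ (ι t) = ι (t ^ q) := fun t => by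
    rw [hσ, ← map_pow, show q ^ 4 = q ^ 3 * q by ring, pow_mul, pow_q3 hK]
  have hQ : (q ^ 4) % 5 = 1 := by
    rw [Nat.pow_mod]
    have : q % 5 = 1 ∨ q % 5 = 2 ∨ q % 5 = 3 ∨ q % 5 = 4 := by omega
    rcases this with e | e | e | e <;> rw [e] <;> norm_num
  have hidx : ¬ 5 ∣ ((chevD4.diagonalSubgroup L).subgroupOf (CfsgLib.Chev.D43.tw σ).fix).index := by
    set Q := q ^ 4 with hQdef
    have hQ2 : 2 ≤ Q := le_trans hq (Nat.le_self_pow (by norm_num) q)
    obtain ⟨-, hcard⟩ := CfsgLib.Chev.D43.orders (q := Q) hσ hLc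
    have hidx := Subgroup.card_mul_index ((chevD4.diagonalSubgroup L).subgroupOf (CfsgLib.Chev.D43.tw σ).fix)
    have hc : Nat.card ↥((chevD4.diagonalSubgroup L).subgroupOf (CfsgLib.Chev.D43.tw σ).fix) =
        (Q - 1) * (Q ^ 3 - 1) := by
      rw [← CfsgLib.Chev.D43.card_diag hσ hLc hQ2, inf_comm, ← Subgroup.inf_subgroupOf_right]
      exact Nat.card_congr ((Subgroup.subgroupOfEquivOfLe (inf_le_right (a := chevD4.diagonalSubgroup L))).toEquiv.trans (Equiv.setCongr (by rw [inf_comm])))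
    rw [hc, hcard] at hidx
    set M := Q ^ 12 * ((Q + 1) * (Q ^ 3 + 1) * (Q ^ 8 + Q ^ 4 + 1)) with hM
    have e : ((chevD4.diagonalSubgroup L).subgroupOf (CfsgLib.Chev.D43.tw σ).fix).index = M := by
      refine Nat.eq_of_mul_eq_mul_left (Nat.mul_pos (show 0 < Q - 1 by omega)
        (Nat.sub_pos_of_lt (Nat.one_lt_pow (by norm_num) (by omega)))) (hidx.trans ?_)
      rw [hM, show Q ^ 6 - 1 = (Q ^ 3 + 1) * (Q ^ 3 - 1) by
          rw [← Nat.sq_sub_sq, one_pow, show (Q ^ 3) ^ 2 = Q ^ 6 by ring],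
        show Q ^ 2 - 1 = (Q + 1) * (Q - 1) by rw [← Nat.sq_sub_sq, one_pow]]
      ring
    rw [e, hM, Nat.dvd_iff_mod_eq_zero]
    norm_num [Nat.mul_mod, Nat.pow_mod, Nat.add_mod, hQ]
  have hA : AutoExp ↥(CfsgLib.Chev.D43.tw σ).fix 5 (5 + 1) :=
    autoExp_torus (CfsgLib.Chev.D43.tw σ) ftabD43_ok exp6 hidx
  let ψ : ↥H →* ↥(CfsgLib.Chev.D43.tw σ).fix :=
    ((Matrix.GeneralLinearGroup.map ι).comp ((twistedD4 K q).subtype.comp H.subtype)).codRestrict _
      fun x => map_twisted_le ι hσι (pow_q3 hK) ⟨x.1.1, x.1.2, rfl⟩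
  have hψ : Function.Injective ψ := fun x y e => H.subtype_injective (Subtype.ext
    (glmap_inj ι (congrArg Subtype.val e)))
  obtain ⟨H', φ', h'⟩ := section_map ψ hψ φ hφ
  exact five_sections hA (by norm_num) H' φ' h'

section Five

variable {L : Type u} [Field L] [IsAlgClosed L] [Algebra K L] [Algebra.IsAlgebraic K L]

/-- an involution of the twisted group over the closed field -/
lemma toral_twisted (hK : Fintype.card K = q ^ 3) (h2 : (2 : K) ≠ 0) (t : ↥(twistedD4 K q)) (ht : t * t = 1)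
    (h1 : t ≠ 1) :
    ∃ y ∈ chevD4.group L, ∃ c : Fin chevD4.rank → Lˣ, ∃ v : Fin 16, good v.val = true ∧
      y⁻¹ * Matrix.GeneralLinearGroup.map (algebraMap K L) (t : GL chevD4.Idx K) * y = tor chevD4 auxD4 c ∧
      ∀ r < chevD4.nroots, chi chevD4 auxD4 c r = if sg v.val r then 1 else -1 := by
  obtain ⟨p, _⟩ := CharP.exists K
  obtain ⟨n, hp, hn⟩ := FiniteField.card K p
  haveI : Fact p.Prime := ⟨hp⟩
  obtain ⟨a, -, ha⟩ : ∃ a, a ≤ (n : ℕ) ∧ q = p ^ a := (Nat.dvd_prime_pow hp).1 (by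
    rw [← hn, hK]; exact dvd_pow_self q (by norm_num))
  haveI : CharP L p := charP_of_injective_algebraMap (algebraMap K L).injective p
  haveI : ExpChar L p := ExpChar.prime hp
  haveI : CharP K p := inferInstance
  haveI : ExpChar K p := ExpChar.prime hp
  let σK : K →+* K := iterateFrobenius K p a
  have hσK : ∀ x, σK x = x ^ q := fun x => by simp only [σK, iterateFrobenius_def, ha]
  let σ : L →+* L := iterateFrobenius L p a
  have hσι : ∀ x : K, σ (algebraMap K L x) = algebraMap K L (x ^ q) := fun x => by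
    simp only [σ, iterateFrobenius_def, ha, map_pow]
  have hG : (t : GL chevD4.Idx K) ∈ chevD4.group K :=
    (CfsgLib.Chev.D43.tw σK).fix_le_group (CfsgLib.Chev.D43.twisted_le_fix hσK hK t.2)
  have h2L : (2 : L) ≠ 0 := fun e0 => h2 ((algebraMap K L).injective (by rw [map_ofNat, map_zero, e0]))
  refine fixed_class (σ := σ) h2L (map_twisted_le _ hσι (pow_q3 hK) ⟨_, t.2, rfl⟩) (fun e => h1 ?_) ?_
    (toral_closed _ h2 hG (congrArg Subtype.val ht))
  · exact Subtype.ext (glmap_inj (algebraMap K L) (e.trans (map_one _).symm))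
  · rw [← map_mul, congrArg Subtype.val ht |> fun e : (t : GL chevD4.Idx K) * t = 1 => e, map_one]

/-- the representation -/
noncomputable def rep : ↥(twistedD4 K q) →* Module.End L (chevD4.Idx → L) :=
  ((Matrix.toLinAlgEquiv' : Matrix chevD4.Idx chevD4.Idx L ≃ₐ[L] _).toRingEquiv.toRingHom.toMonoidHom).comp
    ((Units.coeHom _).comp ((Matrix.GeneralLinearGroup.map (algebraMap K L)).comp (twistedD4 K q).subtype))

lemma fix_dim (hK : Fintype.card K = q ^ 3) (h2 : (2 : K) ≠ 0) (t : ↥(twistedD4 K q)) (ht : t * t = 1)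
    (h1 : t ≠ 1) : Module.finrank L (fixS (rep (L := L) t)) = 12 := by
  classical
  obtain ⟨y, -, c, v, hv, e, hchi⟩ := toral_twisted (L := L) hK h2 t ht h1
  have h2L : (2 : L) ≠ 0 := fun e0 => h2 ((algebraMap K L).injective (by rw [map_ofNat, map_zero, e0]))
  set tL : GL chevD4.Idx L := Matrix.GeneralLinearGroup.map (algebraMap K L) (t : GL chevD4.Idx K)
  set M : Matrix chevD4.Idx chevD4.Idx L := (tL : Matrix chevD4.Idx chevD4.Idx L)
  have hker : fixS (rep (L := L) t) = LinearMap.ker (M - 1).mulVecLin := by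
    ext x
    rw [mem_fixS, LinearMap.mem_ker, Matrix.mulVecLin_apply, Matrix.sub_mulVec, Matrix.one_mulVec, sub_eq_zero]
    rfl
  have hrn := LinearMap.finrank_range_add_finrank_ker (M - 1).mulVecLin
  set Z : Matrix chevD4.Idx chevD4.Idx L :=
    ((tor chevD4 auxD4 c : GL chevD4.Idx L) : Matrix chevD4.Idx chevD4.Idx L)
  have hM : M - 1 = (y : Matrix chevD4.Idx chevD4.Idx L) * (Z - 1) * ((y⁻¹ : GL chevD4.Idx L) : Matrix chevD4.Idx chevD4.Idx L) := by
    have e2 : tL = y * tor chevD4 auxD4 c * y⁻¹ := by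
      rw [← e]; group
    rw [Matrix.mul_sub, Matrix.sub_mul, Matrix.mul_one, Units.mul_inv]
    simp only [M, e2, Units.val_mul, Z]
  have hr : (M - 1).rank = 16 := by
    rw [hM, Matrix.rank_mul_eq_left_of_isUnit_det _ _ ((Matrix.isUnit_iff_isUnit_det _).1 (y⁻¹).isUnit),
      Matrix.rank_mul_eq_right_of_isUnit_det _ _ ((Matrix.isUnit_iff_isUnit_det _).1 y.isUnit)]
    simp only [Z, tor_val, dia]
    rw [← Matrix.diagonal_one, Matrix.diagonal_sub, Matrix.rank_diagonal, ← count16 v hv,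
      ← Fintype.card_coe]
    have hm : ∀ s : Fin chevD4.nroots,
        ((chi chevD4 auxD4 c s : Lˣ) : L) - 1 ≠ 0 ↔ sg v.val s = false := by
      intro s
      rw [hchi s s.isLt]
      cases sg v.val s
      · simp only [Bool.false_eq_true, if_false, Units.val_neg, Units.val_one, iff_true]
        intro h0
        exact h2L (by linear_combination -h0)
      · simp
    refine Fintype.card_congr
      { toFun := fun i => match i with
          | ⟨Sum.inl a, ha⟩ => absurd (by simp) ha
          | ⟨Sum.inr s, hs⟩ => ⟨s, Finset.mem_filter.2 ⟨Finset.mem_univ _, (hm s).1 (by simpa using hs)⟩⟩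
        invFun := fun s => ⟨Sum.inr s.1, by simpa using (hm s.1).2 (Finset.mem_filter.1 s.2).2⟩
        left_inv := fun i => match i with
          | ⟨Sum.inl a, ha⟩ => absurd (by simp) ha
          | ⟨Sum.inr s, hs⟩ => rfl
        right_inv := fun s => rfl }
  have hdim : Module.finrank L (chevD4.Idx → L) = 28 := by
    rw [Module.finrank_fintype_fun_eq_card]; decide +kernel
  rw [hdim] at hrn
  rw [hker]
  have : Module.finrank L (LinearMap.range (M - 1).mulVecLin) = 16 := hr
  omega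

/-- involution centralisers -/
theorem cent_sections (hK : Fintype.card K = q ^ 3) (h2 : (2 : K) ≠ 0) (h7 : (7 : K) ≠ 0)
    (z : ↥(twistedD4 K q)) (hz : z * z = 1) (hz1 : z ≠ 1) (H : Subgroup ↥(twistedD4 K q))
    (hH : ∀ h ∈ H, h * z = z * h) (r : ℕ) (φ : ↥H →* alternatingGroup (Fin r)) (hφ : Function.Surjective φ) :
    r ≤ 6 := by
  haveI : Fact (Nat.Prime 7) := ⟨by norm_num⟩
  obtain ⟨p, _⟩ := CharP.exists K
  obtain ⟨n, hp, hn⟩ := FiniteField.card K p
  haveI : Fact p.Prime := ⟨hp⟩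
  obtain ⟨a, -, ha⟩ : ∃ a, a ≤ (n : ℕ) ∧ q = p ^ a := (Nat.dvd_prime_pow hp).1 (by
    rw [← hn, hK]; exact dvd_pow_self q (by norm_num))
  haveI : ExpChar K p := ExpChar.prime hp
  have hσK : ∀ x, iterateFrobenius K p a x = x ^ q := fun x => by simp only [iterateFrobenius_def, ha]
  have hle : twistedD4 K q ≤ chevD4.group K := fun x hx =>
    (CfsgLib.Chev.D43.tw _).fix_le_group (CfsgLib.Chev.D43.twisted_le_fix hσK hK hx)
  obtain ⟨y, hy, c, v, hv, e, hchi⟩ := toral_twisted (L := AlgebraicClosure K) hK h2 z hz hz1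
  have g := stdD4.good
  obtain ⟨M, _, hQ, ⟨yM, hyM, hyMe⟩, hcM⟩ := exists_field_split (F := K) g hy (r := 7) (by exact_mod_cast h7) c
  haveI : Finite (GL chevD4.Idx M) := finite_GL
  let j : M →+* AlgebraicClosure K := algebraMap M (AlgebraicClosure K)
  let cM : Fin chevD4.rank → (↥M)ˣ := fun i => Units.mk0 ⟨(c i : AlgebraicClosure K), hcM i⟩
    (fun e0 => (c i).ne_zero (congrArg Subtype.val e0))
  have hcMe : (fun i => Units.map (j : ↥M →* AlgebraicClosure K) (cM i)) = c := funext fun i => Units.ext rfl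
  have hchiM : ∀ r, Units.map (j : ↥M →* AlgebraicClosure K) (chi chevD4 auxD4 cM r) = chi chevD4 auxD4 c r := fun r => by
    conv_rhs => rw [← hcMe]
    simp only [chi, map_prod, map_zpow]
  have h2L : (2 : AlgebraicClosure K) ≠ 0 := fun e0 => h2 ((algebraMap K (AlgebraicClosure K)).injective (by rw [map_ofNat, map_zero, e0]))
  have hA : AutoExp ↥(cenTor chevD4 auxD4 cM) 7 (3 + 1) := by
    refine autoExp_cent stdD4 cM (fun w hw hst => ?_)
      (index_split stdD4 weylOKD4 smithD4 poinD4 (show ∀ i : Fin 4, (![1, 1, 2, 2] : Fin 4 → ℕ) i ∣ [2, 4, 4, 6].prod by decide) (by decide) hQ)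
    obtain ⟨w', hw', hs⟩ := exists_NF g weylOKD4 hw
    have hb : ((List.range chevD4.nroots).all fun r => decide (sg v.val (wf auxD4 w' r) = sg v.val r)) = true := by
      refine List.all_eq_true.2 fun r hr => decide_eq_true ?_
      rw [List.mem_range] at hr
      have := congrArg (Units.map (j : ↥M →* AlgebraicClosure K)) (hst r hr)
      rw [hchiM, hchiM, hs r hr, hchi _ (wf_lt g (NF_letters weylOKD4 le_rfl hw') hr), hchi r hr] at this
      revert this
      cases sg v.val (wf auxD4 w' r) <;> cases sg v.val r <;>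
        simp [one_ne_neg_one h2L, (one_ne_neg_one h2L).symm]
    have hk := stab_chk v hv w' hw' hb
    intro r hr
    have hit : ∀ m, (wf auxD4 w)^[m] r = (wf auxD4 w')^[m] r ∧ (wf auxD4 w')^[m] r < chevD4.nroots := by
      intro m
      induction m with
      | zero => exact ⟨rfl, hr⟩
      | succ m ih =>
        rw [Function.iterate_succ_apply', Function.iterate_succ_apply', ih.1]
        exact ⟨hs _ ih.2, wf_lt g (NF_letters weylOKD4 le_rfl hw') ih.2⟩
    rw [(hit (3 + 1)).1]
    exact of_decide_eq_true ((List.all_eq_true.1 hk) r (List.mem_range.2 hr))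
  let f : ↥(twistedD4 K q) →* GL chevD4.Idx M :=
    ((MulAut.conj yM⁻¹).toMonoidHom.comp (Matrix.GeneralLinearGroup.map (algebraMap K M))).comp
      (twistedD4 K q).subtype
  have hfmem : ∀ x, f x ∈ chevD4.group M := fun x => by
    show yM⁻¹ * _ * (yM⁻¹)⁻¹ ∈ chevD4.group M
    exact mul_mem (mul_mem (inv_mem hyM) (group_map_le g _ ⟨x.1, hle x.2, rfl⟩)) (inv_mem (inv_mem hyM))
  have hjinj : Function.Injective (Matrix.GeneralLinearGroup.map (n := chevD4.Idx) j) := by
    intro x y e
    refine Units.ext (Matrix.ext fun a b => j.injective ?_)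
    exact congrArg (fun z : GL chevD4.Idx (AlgebraicClosure K) => (z : Matrix chevD4.Idx chevD4.Idx (AlgebraicClosure K)) a b) e
  have hfz : f z = tor chevD4 auxD4 cM := by
    apply hjinj
    rw [map_tor, hcMe, ← e, ← hyMe]
    show Matrix.GeneralLinearGroup.map j (yM⁻¹ * _ * (yM⁻¹)⁻¹) = _
    rw [map_mul, map_mul, inv_inv, map_inv]
    congr 2
  have hfinj : Function.Injective f := ((MulAut.conj yM⁻¹).injective.comp (glmap_inj _)).comp (twistedD4 K q).subtype_injective
  let ψ : ↥H →* ↥(cenTor chevD4 auxD4 cM) :=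
    (f.comp H.subtype).codRestrict _ fun x => mem_cenTor.2 ⟨hfmem _, by
      rw [← hfz]
      show f x.1 * f z = f z * f x.1
      rw [← map_mul, hH _ x.2, map_mul]⟩
  have hψ : Function.Injective ψ := fun a b e0 =>
    H.subtype_injective (hfinj (congrArg Subtype.val e0))
  obtain ⟨H', φ', h'⟩ := section_map ψ hψ φ hφ
  exact seven_sections hA (by norm_num) H' φ' h'

end Five

/-- characteristic five -/
theorem sections_five (hK : Fintype.card K = q ^ 3) [CharP K 5] {r : ℕ}
    (H : Subgroup ↥(twistedD4 K q)) (φ : ↥H →* alternatingGroup (Fin r)) (hφ : Function.Surjective φ) :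
    r ≤ 7 := by
  haveI : Finite (GL chevD4.Idx K) := finite_GL
  have h2 : (2 : K) ≠ 0 := by
    intro e
    have := (CharP.cast_eq_zero_iff K 5 2).1 (by exact_mod_cast e)
    omega
  have h7 : (7 : K) ≠ 0 := by
    intro e
    have := (CharP.cast_eq_zero_iff K 5 7).1 (by exact_mod_cast e)
    omega
  have h2L : (2 : AlgebraicClosure K) ≠ 0 := fun e0 => h2 ((algebraMap K (AlgebraicClosure K)).injective (by rw [map_ofNat, map_zero, e0]))
  refine sections_le_seven (rep (L := AlgebraicClosure K)) (n := 28) (f := 12) (n2 := 4) (n3 := 0)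
    (by norm_num) ?_ (fix_dim hK h2) h2L (cent_sections hK h2 h7) H φ hφ
  rw [Module.finrank_fintype_fun_eq_card]; decide +kernel

end CfsgLib.Chev.AltSect.D4
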