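/-
Lifting commuting prime power subgroups with their normalisers, and moving them into the torus.
-/
import Cfsg.Agent.Lib.Chev.AltSect.Auto

set_option autoImplicit false

namespace CfsgLib.Chev.AltSect

/-- a `p`-subgroup is conjugate into a subgroup of index prime to `p` -/
theorem conj_sub {G : Type*} [Group G] [Finite G] (T : Subgroup G) {p : ℕ} [Fact p.Prime]
    (hidx : ¬ p ∣ T.index) (P : Subgroup G) (hP : IsPGroup p ↥P) :
    ∃ g : G, ∀ x ∈ P, g * x * g⁻¹ ∈ T := by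
  obtain ⟨c, hc⟩ := hP.nonempty_fixed_point_of_prime_not_dvd_card (G ⧸ T)
    (by rw [← Subgroup.index]; exact hidx)
  induction c using QuotientGroup.induction_on with
  | _ g =>
    refine ⟨g⁻¹, fun x hx => ?_⟩
    have h : QuotientGroup.mk (x * g) = (QuotientGroup.mk g : G ⧸ T) := hc ⟨x, hx⟩
    have := inv_mem ((QuotientGroup.eq).1 h)
    rw [_root_.mul_inv_rev, inv_inv] at this
    rwa [inv_inv, mul_assoc]

/-- a `p`-subgroup of a section lifts together with its normaliser -/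
theorem lift_normalizer {H A : Type*} [Group H] [Finite H] [Group A] {p : ℕ} [Fact p.Prime]
    (φ : H →* A) (X : Subgroup A) (hX : X ≤ φ.range) (hXp : IsPGroup p ↥X) :
    ∃ P : Subgroup H, IsPGroup p ↥P ∧ P.map φ = X ∧
      ∀ z : H, φ z ∈ Subgroup.normalizer (X : Set A) →
        ∃ m ∈ Subgroup.normalizer (P : Set H), φ m = φ z := by
  classical
  set M : Subgroup H := (Subgroup.normalizer (X : Set A)).comap φ
  set φM : ↥M →* A := φ.comp M.subtype
  set Y : Subgroup ↥M := X.comap φM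
  haveI hYn : Y.Normal := ⟨fun a ha g => by
    show φM (g * a * g⁻¹) ∈ X
    rw [map_mul, map_mul, map_inv]
    exact (Subgroup.mem_normalizer_iff.1 g.2 (φM a)).1 ha⟩
  obtain ⟨P⟩ : Nonempty (Sylow p ↥Y) := inferInstance
  have hfr := Sylow.normalizer_sup_eq_top P
  set PM : Subgroup ↥M := (P : Subgroup ↥Y).map Y.subtype
  let ψ : ↥Y →* ↥X := φM.subgroupComap X
  have hψ : Function.Surjective ψ := by
    rintro ⟨z, hz⟩
    obtain ⟨z0, rfl⟩ := hX hz
    exact ⟨⟨⟨z0, Subgroup.le_normalizer (H := X) hz⟩, hz⟩, rfl⟩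
  have hQ : ((P.mapSurjective hψ : Sylow p ↥X) : Subgroup ↥X) = ⊤ :=
    ((P.mapSurjective hψ).3 (Q := ⊤) (hXp.of_equiv Subgroup.topEquiv.symm) le_top).symm
  set PH : Subgroup H := PM.map M.subtype
  have hmap : PH.map φ = X := by
    refine le_antisymm ?_ fun x hx => ?_
    · rintro _ ⟨_, ⟨_, ⟨z, -, rfl⟩, rfl⟩, rfl⟩
      exact z.2
    · obtain ⟨z, hz, e⟩ := (hQ ▸ Subgroup.mem_top _ :
        (⟨x, hx⟩ : ↥X) ∈ ((P.mapSurjective hψ : Sylow p ↥X) : Subgroup ↥X))
      exact ⟨((z : ↥M) : H), ⟨_, ⟨z, hz, rfl⟩, rfl⟩, congrArg Subtype.val e⟩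
  refine ⟨PH, (P.2.map _).map _, hmap, fun z hz => ?_⟩
  have hd : (⟨z, hz⟩ : ↥M) ∈ Subgroup.normalizer (PM : Set ↥M) ⊔ Y := hfr.symm ▸ Subgroup.mem_top _
  obtain ⟨m, hm, a, ha, hma⟩ := Subgroup.mem_sup_of_normal_right.1 hd
  have hmN : (m : H) ∈ Subgroup.normalizer (PH : Set H) :=
    Subgroup.le_normalizer_map M.subtype ⟨m, hm, rfl⟩
  have hsub : X ≤ (Subgroup.normalizer (PH : Set H)).map φ :=
    hmap ▸ Subgroup.map_mono Subgroup.le_normalizer
  obtain ⟨a', ha', e⟩ := hsub (show φ (a : H) ∈ X from ha)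
  refine ⟨(m : H) * a', mul_mem hmN ha', ?_⟩
  rw [map_mul, e, ← map_mul]
  exact congrArg (fun t : ↥M => φ t) hma

end CfsgLib.Chev.AltSect
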