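/-
Alternating sections of the groups of type F4.
-/
import Cfsg.Agent.Lib.Chev.AltSect.Lift
import Cfsg.Agent.Lib.Chev.AltSect.Split
import Cfsg.Agent.Lib.Chev.AltSect.Index
import Cfsg.Agent.Lib.Chev.AltSect.Witness
import Cfsg.Agent.Lib.Chev.F4Prime.Neg
import Cfsg.Agent.Lib.Chev.OrderTypes
import Cfsg.Agent.Lib.KnownB.ChevField
import Mathlib.FieldTheory.Finite.Extension

set_option autoImplicit false
set_option maxRecDepth 100000

namespace CfsgLib.Chev.AltSect.F4

open Cfsg.Lie Matrix Equiv CfsgLib.Chev CfsgLib.Chev.AltSect CfsgLib.Chev.F4Prime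
open CfsgLib.Chev.Lang
open CfsgLib.KnownB.ChevField (group_map_le)

universe u

/-! ### integral relations along a sequence -/

/-- the product of a sequence against a coefficient list, from the top down -/
def rel {G : Type*} [Group G] (f : ℕ → G) : List ℤ → G
  | [] => 1
  | c :: p => f (p.length + 1) ^ c * rel f p

theorem map_rel {G H : Type*} [Group G] [Group H] (θ : G →* H) (f : ℕ → G) :
    ∀ p, θ (rel f p) = rel (fun j => θ (f j)) p
  | [] => map_one θ
  | c :: p => by rw [rel, map_mul, map_zpow, map_rel θ f p]; rfl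

/-- the matching evaluation -/
def revEval (e : ℤ) : List ℤ → ℤ
  | [] => 0
  | c :: p => e ^ (p.length + 1) * c + revEval e p

theorem rel_pow {G : Type*} [Group G] (x : G) (e : ℤ) :
    ∀ p, rel (fun j => x ^ (e ^ j)) p = x ^ revEval e p
  | [] => (zpow_zero x).symm
  | c :: p => by rw [rel, rel_pow x e p, revEval, _root_.zpow_add, _root_.zpow_mul]

/-- every annihilating product is prime to seven at three, or to five at two -/
theorem ann_arith : ∀ S ∈ annList, ¬ (7 : ℤ) ∣ revEval 3 (cprod S) ∨ ¬ (5 : ℤ) ∣ revEval 2 (cprod S) := by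
  decide +kernel

/-! ### the relations on the torus -/

section torus

variable {L : Type u} [Field L]

/-- a character of the torus by its exponents -/
noncomputable def Vb (c : Fin chevF4.rank → Lˣ) : Z4 → Lˣ
  | (a, b, d, e) => chi chevF4 auxF4 c (chevF4.simple 0) ^ a * chi chevF4 auxF4 c (chevF4.simple 1) ^ b *
      chi chevF4 auxF4 c (chevF4.simple 2) ^ d * chi chevF4 auxF4 c (chevF4.simple 3) ^ e

theorem Vb_row (c : Fin chevF4.rank → Lˣ) {r : ℕ} (hr : r < chevF4.nroots) :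
    Vb c (row r) = chi chevF4 auxF4 c r := by
  rw [chi_eq_wt stdF4.good c hr, wt, Finset.prod_range (n := chevF4.rank)]
  show _ = ∏ k : Fin 4, _
  rw [Fin.prod_univ_four]
  rfl

theorem Vb_zero (c : Fin chevF4.rank → Lˣ) : Vb c (0, 0, 0, 0) = 1 := by simp [Vb]

theorem Vb_add (c : Fin chevF4.rank → Lˣ) (x y : Z4) : Vb c (add4 x y) = Vb c x * Vb c y := by
  obtain ⟨x0, x1, x2, x3⟩ := x
  obtain ⟨y0, y1, y2, y3⟩ := y
  simp only [Vb, add4, _root_.zpow_add]
  simp only [mul_mul_mul_comm]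

theorem Vb_sc (c : Fin chevF4.rank → Lˣ) (k : ℤ) (x : Z4) : Vb c (sc4 k x) = Vb c x ^ k := by
  obtain ⟨x0, x1, x2, x3⟩ := x
  simp only [Vb, sc4, mul_zpow, ← _root_.zpow_mul, mul_comm]

theorem Vb_step {w : List ℕ} (hw : Letters chevF4 w) {c d : Fin chevF4.rank → Lˣ}
    (h : ∀ r < chevF4.nroots, chi chevF4 auxF4 d (wf auxF4 w r) = chi chevF4 auxF4 c r) (b : Z4) :
    Vb d (step (mat w) b) = Vb c b := by
  have hl : ∀ i : ℕ, i < chevF4.rank →
      Vb d (row (wf auxF4 w (chevF4.simple i))) = chi chevF4 auxF4 c (chevF4.simple i) := fun i hi => by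
    rw [Vb_row d (wf_lt stdF4.good hw (stdF4.good.simple_lt i hi)), h _ (stdF4.good.simple_lt i hi)]
  obtain ⟨x, y, z, t⟩ := b
  rw [show Vb c (x, y, z, t) = chi chevF4 auxF4 c (chevF4.simple 0) ^ x * chi chevF4 auxF4 c (chevF4.simple 1) ^ y *
      chi chevF4 auxF4 c (chevF4.simple 2) ^ z * chi chevF4 auxF4 c (chevF4.simple 3) ^ t from rfl,
    ← hl 0 (by decide), ← hl 1 (by decide), ← hl 2 (by decide), ← hl 3 (by decide),
    ← Vb_sc d x, ← Vb_sc d y, ← Vb_sc d z, ← Vb_sc d t, ← Vb_add, ← Vb_add, ← Vb_add]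
  congr 1

theorem rel_chi {w : List ℕ} (hw : Letters chevF4 w) {C : ℕ → Fin chevF4.rank → Lˣ}
    (h : ∀ j, ∀ r < chevF4.nroots, chi chevF4 auxF4 (C (j + 1)) (wf auxF4 w r) = chi chevF4 auxF4 (C j) r) :
    ∀ (p : List ℤ) (b : Z4), rel (fun j => Vb (C j) b) p = Vb (C p.length) (app (mat w) p b)
  | [], b => (Vb_zero _).symm
  | c :: p, b => by
    rw [rel, rel_chi hw h p b, app, Vb_add, Vb_sc, List.length_cons, Vb_step hw (h p.length)]

/-- the annihilating products kill the orbit of a torus element -/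
theorem rel_torus {w : List ℕ} (hw : Letters chevF4 w) (c : Fin chevF4.rank → Lˣ) {p : List ℤ}
    (hp : ∀ b ∈ units4, app (mat w) p b = (0, 0, 0, 0)) :
    rel (fun j => nW L stdF4.good w ^ j * (tor chevF4 auxF4 c : GL chevF4.Idx L) *
      (nW L stdF4.good w ^ j)⁻¹) p = 1 := by
  have g := stdF4.good
  set n := nW L stdF4.good w
  choose C hC using fun j : ℕ => monomial_conj_tor g (pow_mem (nW_mem (F := L) g hw) j) c
  have hrec : ∀ j, ∀ r < chevF4.nroots,
      chi chevF4 auxF4 (C (j + 1)) (wf auxF4 w r) = chi chevF4 auxF4 (C j) r := fun j r hr =>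
    OddInvol.chi_conj stdF4 (nW_acts g hw) (by rw [← hC, ← hC, pow_succ']; group) hr
  rw [show (fun j : ℕ => n ^ j * (tor chevF4 auxF4 c : GL chevF4.Idx L) * (n ^ j)⁻¹) =
      fun j => tor chevF4 auxF4 (C j) from funext hC]
  rw [← map_rel (tor chevF4 auxF4) C p, tor_eq_dgn g]
  have hs : ∀ i : Fin chevF4.rank, chi chevF4 auxF4 (rel C p) (chevF4.simple i) = 1 := by
    intro i
    let χ : (Fin chevF4.rank → Lˣ) →* Lˣ :=
      { toFun := fun d => chi chevF4 auxF4 d (chevF4.simple i)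
        map_one' := chi_one _
        map_mul' := fun a b => chi_mul a b _ }
    show χ (rel C p) = 1
    have hi := g.simple_lt i i.isLt
    rw [map_rel]
    show rel (fun j => chi chevF4 auxF4 (C j) (chevF4.simple i)) p = 1
    simp only [← Vb_row _ hi]
    rw [rel_chi hw hrec, hp _ ?_, Vb_zero]
    exact (by decide +kernel : ∀ j : Fin 4, row (chevF4.simple j) ∈ units4) i
  rw [show (fun i : Fin chevF4.rank => chi chevF4 auxF4 (rel C p) (chevF4.simple i)) = 1 from funext hs,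
    map_one]

/-- an element normalising a part of the torus acts there through one Weyl word -/
theorem action_weyl {y : GL chevF4.Idx L} (hy : y ∈ chevF4.group L) {P : Set (GL chevF4.Idx L)}
    (hP : ∀ a ∈ P, a ∈ chevF4.diagonalSubgroup L) (hn : ∀ a ∈ P, y * a * y⁻¹ ∈ P) :
    ∃ w, Letters chevF4 w ∧ ∀ (j : ℕ), ∀ a ∈ P,
      nW L stdF4.good w ^ j * a * (nW L stdF4.good w ^ j)⁻¹ = y ^ j * a * (y ^ j)⁻¹ := by
  have g := stdF4.good
  obtain ⟨w, hw, hfus⟩ := SylowTori.fusion stdF4 hy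
  refine ⟨w, hw, conj_pow_congr hn fun a ha => ?_⟩
  have hb := hP _ (hn a ha)
  generalize hb' : y * a * y⁻¹ = b at hb ⊢
  have e : y * a = b * y := by rw [← hb']; group
  have ha' := hP a ha
  rw [diagonalSubgroup_eq g] at ha' hb
  obtain ⟨ca, rfl⟩ := ha'
  obtain ⟨cb, rfl⟩ := hb
  have := hfus (fun i => chi chevF4 auxF4 ca (chevF4.simple i))
    (fun i => chi chevF4 auxF4 cb (chevF4.simple i))
    (by rw [← tor_eq_dgn g, diagonalSubgroup_eq g]; exact ⟨ca, rfl⟩)
    (by rw [← tor_eq_dgn g, diagonalSubgroup_eq g]; exact ⟨cb, rfl⟩)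
    (by rw [← tor_eq_dgn g, ← tor_eq_dgn g]; exact e)
  rwa [← tor_eq_dgn g, ← tor_eq_dgn g] at this

theorem weyl_diag {w : List ℕ} (hw : Letters chevF4 w) :
    nW L stdF4.good w ^ (1151 + 1) ∈ chevF4.diagonalSubgroup L :=
  mem_diag_of_id stdF4 (pow_mem (nW_mem stdF4.good hw) _)
    (acts_pow (by simpa using acts_tor (F := L) stdF4.good 1) (nW_acts stdF4.good hw) 1151)
    fun r hr => by
      have := SylowTori.iterate_card stdF4.good hw hr
      rw [card_weyl_F4] at this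
      exact this

variable {H : Type*} [Group H] [Finite H] (θ : H →* GL chevF4.Idx L)
  (hθ : Function.Injective θ) (hG : ∀ x, θ x ∈ chevF4.group L)
include hθ hG

/-- normalising elements of order prime to the Weyl group centralise -/
theorem cent_of_split (P : Subgroup H) (hP : ∀ a ∈ P, θ a ∈ chevF4.diagonalSubgroup L) {s : H}
    (hs : s ∈ Subgroup.normalizer (P : Set H)) (ho : Nat.Coprime (1151 + 1) (orderOf s)) :
    ∀ a ∈ P, s * a = a * s := by
  intro a ha
  obtain ⟨w, hw, hact⟩ := action_weyl (hG s) (P := θ '' P) (by rintro _ ⟨b, hb, rfl⟩; exact hP b hb)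
    (by
      rintro _ ⟨b, hb, rfl⟩
      exact ⟨s * b * s⁻¹, (Subgroup.mem_normalizer_iff.1 hs b).1 hb, by simp⟩)
  have h1 := hact (1151 + 1) (θ a) ⟨a, ha, rfl⟩
  rw [(diag_comm stdF4.good (weyl_diag hw) (hP a ha)).eq, mul_inv_cancel_right] at h1
  have hc : Commute (s ^ (1151 + 1)) a := hθ (by
    rw [map_mul, map_mul, map_pow]
    exact mul_inv_eq_iff_eq_mul.1 h1.symm)
  obtain ⟨m, hm⟩ := exists_pow_eq_self_of_coprime ho
  have h2 := hc.pow_left m
  rw [hm] at h2
  exact h2.eq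

variable [Finite L]

omit hθ in
/-- moving a subgroup into the torus by an element of an intermediate group -/
theorem conj_diag {p : ℕ} [Fact p.Prime]
    (hidx : ¬ p ∣ ((chevF4.diagonalSubgroup L).subgroupOf (chevF4.group L)).index)
    (C : Subgroup (GL chevF4.Idx L)) (hC : C ≤ chevF4.group L) (hTC : chevF4.diagonalSubgroup L ≤ C)
    (P : Subgroup H) (hP : IsPGroup p ↥P) (hPC : ∀ a ∈ P, θ a ∈ C) :
    ∃ y ∈ C, ∀ a ∈ P, y * θ a * y⁻¹ ∈ chevF4.diagonalSubgroup L := by
  haveI := Fintype.ofFinite L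
  haveI : Finite (GL chevF4.Idx L) := finite_GL
  have hidx' : ¬ p ∣ ((chevF4.diagonalSubgroup L).subgroupOf C).index := fun hd => hidx (hd.trans (by
    show (chevF4.diagonalSubgroup L).relIndex C ∣ (chevF4.diagonalSubgroup L).relIndex (chevF4.group L)
    exact Dvd.intro _ (Subgroup.relIndex_mul_relIndex _ _ _ hTC hC)))
  let θC : ↥P →* ↥C := (θ.comp P.subtype).codRestrict C fun x => hPC x x.2
  obtain ⟨y, hy⟩ := conj_sub _ hidx' θC.range (hP.of_surjective θC.rangeRestrict θC.rangeRestrict_surjective)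
  exact ⟨y, y.2, fun a ha => hy _ ⟨⟨a, ha⟩, rfl⟩⟩

end torus

/-! ### fields -/

variable {F : Type u} [Field F] [Fintype F]

theorem exists_split (F : Type u) [Field F] [Fintype F] (d : ℕ) (hd : d ≠ 0) :
    ∃ (L : Type) (_ : Field L) (_ : Fintype L) (_ : F →+* L), Fintype.card L = Fintype.card F ^ d := by
  obtain ⟨p, _⟩ := CharP.exists F
  have : Fact p.Prime := ⟨CharP.char_is_prime F p⟩
  have : NeZero d := ⟨hd⟩
  let L := FiniteField.Extension F p d
  have hL : Nat.card L = Fintype.card F ^ d := by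
    rw [FiniteField.natCard_extension, Nat.card_eq_fintype_card]
  have : Finite L := Nat.finite_of_card_ne_zero (by rw [hL]; exact pow_ne_zero _ Fintype.card_ne_zero)
  letI := Fintype.ofFinite L
  exact ⟨L, inferInstance, inferInstance, algebraMap F L, by rw [← Nat.card_eq_fintype_card, hL]⟩

theorem index_F4 {L : Type u} [Field L] [Fintype L] {r : ℕ} [Fact r.Prime] (hr : ¬ r ∣ 1152)
    (hQ : Fintype.card L % r = 1) :
    ¬ r ∣ ((chevF4.diagonalSubgroup L).subgroupOf (chevF4.group L)).index :=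
  index_split stdF4 weylOKF4 smithF4 poinF4
    (by show ∀ i : Fin 4, _; decide +kernel) (by simpa using hr) hQ

theorem gl_map_inj {L : Type*} [Field L] (ι : F →+* L) :
    Function.Injective (Matrix.GeneralLinearGroup.map (n := chevF4.Idx) ι) := by
  intro x y e
  refine Units.ext (Matrix.ext fun i j => ι.injective ?_)
  exact congrArg (fun z : GL chevF4.Idx L => (z : Matrix chevF4.Idx chevF4.Idx L) i j) e

/-- the embedding over a larger field -/
noncomputable def emb {L : Type*} [Field L] (ι : F →+* L) : ↥(chevF4.group F) →* GL chevF4.Idx L :=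
  (Matrix.GeneralLinearGroup.map ι).comp (chevF4.group F).subtype

lemma emb_mem {L : Type*} [Field L] (ι : F →+* L) (x : ↥(chevF4.group F)) : emb ι x ∈ chevF4.group L :=
  group_map_le stdF4.good ι ⟨x.1, x.2, rfl⟩

lemma emb_inj {L : Type*} [Field L] (ι : F →+* L) : Function.Injective (emb ι) :=
  fun _ _ e => Subtype.ext (gl_map_inj ι e)

/-! ### degree eleven -/

/-- an eleven cycle -/
def cyc11 : Perm (Fin 11) where
  toFun i := i + 1
  invFun i := i - 1
  left_inv i := by simp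
  right_inv i := by simp

/-- tripling modulo eleven -/
def tri11 : Perm (Fin 11) where
  toFun i := 3 * i
  invFun i := 4 * i
  left_inv := by decide
  right_inv := by decide

/-- characteristic other than eleven: no section of degree eleven -/
theorem sections_ne_eleven (h11 : ¬ 11 ∣ Fintype.card F) {r : ℕ} (H : Subgroup ↥(chevF4.group F))
    (φ : ↥H →* alternatingGroup (Fin r)) (hφ : Function.Surjective φ) : r ≤ 10 := by
  haveI : Fact (Nat.Prime 11) := ⟨by norm_num⟩
  obtain ⟨L, _, _, ι, hL⟩ := exists_split F 10 (by norm_num)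
  haveI : Finite (GL chevF4.Idx L) := finite_GL
  have hQ : Fintype.card L % 11 = 1 := by
    rw [hL, Nat.pow_mod]
    rcases (show Fintype.card F % 11 = 1 ∨ Fintype.card F % 11 = 2 ∨ Fintype.card F % 11 = 3 ∨
        Fintype.card F % 11 = 4 ∨ Fintype.card F % 11 = 5 ∨ Fintype.card F % 11 = 6 ∨
        Fintype.card F % 11 = 7 ∨ Fintype.card F % 11 = 8 ∨ Fintype.card F % 11 = 9 ∨
        Fintype.card F % 11 = 10 by omega) with e | e | e | e | e | e | e | e | e | e <;>
      rw [e] <;> norm_num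
  set c : Fin chevF4.rank → Lˣ := 1
  have hA : AutoExp ↥(cenTor chevF4 auxF4 c) 11 (1151 + 1) :=
    autoExp_cent stdF4 c (fun w hw _ r hr => by
      have := SylowTori.iterate_card stdF4.good hw hr
      rw [card_weyl_F4] at this
      exact this) (index_F4 (by norm_num) hQ)
  let ψ : ↥H →* ↥(cenTor chevF4 auxF4 c) :=
    ((emb ι).comp H.subtype).codRestrict _ fun x => mem_cenTor.2 ⟨emb_mem ι _, by simp [c]⟩
  have hψ : Function.Injective ψ := fun x y e => H.subtype_injective (emb_inj ι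
    (congrArg (fun z : ↥(cenTor chevF4 auxF4 c) => (z : GL chevF4.Idx L)) e))
  obtain ⟨H', φ', h'⟩ := section_map ψ hψ φ hφ
  by_contra hr
  obtain ⟨x, y, hx, hy, hne⟩ := not_commute_witness (r := r) (k := 1151 + 1) (p := 11) (a := 11) (by omega)
    cyc11 tri11 (by decide +kernel) (by decide +kernel) 3 (by decide +kernel) (by decide +kernel) (by
      have h5 : tri11 ^ 5 = 1 := by decide +kernel
      rw [pow_eq_pow_mod (1151 + 1) h5]
      decide +kernel)
  exact hne (commute_pow_of_section hA φ' h' (n := 1) (by simpa using hx) hy)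

/-! ### degree twelve -/

/-- a seven cycle among twelve points -/
def c7 : Perm (Fin 12) where
  toFun i := ![1, 2, 3, 4, 5, 6, 0, 7, 8, 9, 10, 11] i
  invFun i := ![6, 0, 1, 2, 3, 4, 5, 7, 8, 9, 10, 11] i
  left_inv := by decide
  right_inv := by decide

/-- a five cycle on the other points -/
def c5 : Perm (Fin 12) where
  toFun i := ![0, 1, 2, 3, 4, 5, 6, 8, 9, 10, 11, 7] i
  invFun i := ![0, 1, 2, 3, 4, 5, 6, 11, 7, 8, 9, 10] i
  left_inv := by decide
  right_inv := by decide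

/-- tripling modulo seven and doubling modulo five -/
def y75 : Perm (Fin 12) where
  toFun i := ![0, 3, 6, 2, 5, 1, 4, 7, 9, 11, 8, 10] i
  invFun i := ![0, 5, 3, 1, 6, 4, 2, 7, 10, 8, 11, 9] i
  left_inv := by decide
  right_inv := by decide

theorem conj_iter {G : Type*} [Group G] {x y : G} {e : ℤ} (h : y * x * y⁻¹ = x ^ e) :
    ∀ j : ℕ, y ^ j * x * (y ^ j)⁻¹ = x ^ (e ^ j)
  | 0 => by simp
  | j + 1 => by
    rw [pow_succ', pow_succ',
      show y * y ^ j * x * (y * y ^ j)⁻¹ = y * (y ^ j * x * (y ^ j)⁻¹) * y⁻¹ by group,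
      conj_iter h j, ← conj_zpow, h, ← _root_.zpow_mul]

/-- the relation on a lifted element contradicts the action below -/
theorem rel_contra {L : Type u} [Field L] {H A : Type*} [Group H] [Group A] (θ : H →* GL chevF4.Idx L)
    (hθ : Function.Injective θ) (φ : H →* A) {w : List ℕ} (hw : Letters chevF4 w) {p : List ℤ}
    (hp : ∀ b ∈ units4, app (mat w) p b = (0, 0, 0, 0)) {a m : H} {e : ℤ}
    (ha : θ a ∈ chevF4.diagonalSubgroup L)
    (hact : ∀ j : ℕ, nW L stdF4.good w ^ j * θ a * (nW L stdF4.good w ^ j)⁻¹ = θ (m ^ j * a * (m ^ j)⁻¹))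
    (he : φ m * φ a * (φ m)⁻¹ = φ a ^ e) : (orderOf (φ a) : ℤ) ∣ revEval e p := by
  rw [diagonalSubgroup_eq stdF4.good] at ha
  obtain ⟨c, hc⟩ := ha
  have h1 := rel_torus hw c hp
  rw [hc] at h1
  simp only [hact] at h1
  rw [← map_rel θ] at h1
  have h2 := congrArg φ (hθ (h1.trans θ.map_one.symm))
  rw [map_rel φ, map_one] at h2
  simp only [map_mul, map_inv, map_pow, conj_iter he] at h2
  rw [rel_pow] at h2
  exact orderOf_dvd_iff_zpow_eq_one.2 h2

theorem not_twelve (h7 : Fintype.card F % 7 = 1 ∨ Fintype.card F % 7 = 2 ∨ Fintype.card F % 7 = 4)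
    (h5 : Fintype.card F % 5 = 1) (H : Subgroup ↥(chevF4.group F))
    (φ : ↥H →* alternatingGroup (Fin 12)) (hφ : Function.Surjective φ) : False := by
  haveI : Fact (Nat.Prime 7) := ⟨by norm_num⟩
  haveI : Fact (Nat.Prime 5) := ⟨by norm_num⟩
  obtain ⟨L, _, _, ι, hL⟩ := exists_split F 3 (by norm_num)
  haveI : Finite (GL chevF4.Idx L) := finite_GL
  have i7 := index_F4 (L := L) (r := 7) (by norm_num) (by
    rw [hL, Nat.pow_mod]; rcases h7 with e | e | e <;> rw [e] <;> norm_num)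
  have i5 := index_F4 (L := L) (r := 5) (by norm_num) (by rw [hL, Nat.pow_mod, h5])
  set x7 : alternatingGroup (Fin 12) := ⟨c7, Perm.mem_alternatingGroup.2 (by decide +kernel)⟩ with hx7
  set x5 : alternatingGroup (Fin 12) := ⟨c5, Perm.mem_alternatingGroup.2 (by decide +kernel)⟩ with hx5
  set y : alternatingGroup (Fin 12) := ⟨y75, Perm.mem_alternatingGroup.2 (by decide +kernel)⟩ with hy
  have o7 : orderOf x7 = 7 := orderOf_eq_prime (by decide +kernel) (by decide +kernel)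
  have o5 : orderOf x5 = 5 := orderOf_eq_prime (by decide +kernel) (by decide +kernel)
  have e7 : y * x7 * y⁻¹ = x7 ^ (3 : ℤ) := by decide +kernel
  have e5 : y * x5 * y⁻¹ = x5 ^ (2 : ℤ) := by decide +kernel
  have e57 : x5 * x7 * x5⁻¹ = x7 ^ (1 : ℤ) := by decide +kernel
  have nz : ∀ {g x : alternatingGroup (Fin 12)} {e : ℤ}, g * x * g⁻¹ = x ^ e →
      g ∈ Subgroup.normalizer (Subgroup.zpowers x : Set (alternatingGroup (Fin 12))) := by
    intro g x e h
    have h1 : (Subgroup.zpowers x).map (MulAut.conj g).toMonoidHom ≤ Subgroup.zpowers x := by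
      rw [MonoidHom.map_zpowers, Subgroup.zpowers_le]
      exact ⟨e, by simpa [MulAut.conj_apply] using h.symm⟩
    have h2 : (Subgroup.zpowers x).map (MulAut.conj g).toMonoidHom = Subgroup.zpowers x :=
      Subgroup.eq_of_le_of_card_ge h1 (Subgroup.card_map_of_injective (MulAut.conj g).injective).ge
    refine Subgroup.mem_normalizer_iff.2 fun a => ⟨fun ha => h1 ⟨a, ha, by simp⟩, fun ha => ?_⟩
    rw [← h2] at ha
    obtain ⟨b, hb, e⟩ := ha
    simp only [MulEquiv.coe_toMonoidHom, MulAut.conj_apply, mul_left_inj, mul_right_inj] at e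
    exact e ▸ hb
  -- lift
  have hX7 : IsPGroup 7 ↥(Subgroup.zpowers x7) :=
    IsPGroup.of_card (n := 1) (by rw [Nat.card_zpowers, o7, pow_one])
  have hX5 : IsPGroup 5 ↥(Subgroup.zpowers x5) :=
    IsPGroup.of_card (n := 1) (by rw [Nat.card_zpowers, o5, pow_one])
  obtain ⟨P, hP, hPm, hPn⟩ := lift_normalizer φ (Subgroup.zpowers x7) (fun x _ => hφ x) hX7
  obtain ⟨y0, hy0⟩ := hφ y
  obtain ⟨z5, hz5⟩ := hφ x5
  obtain ⟨y1, hy1, ey1⟩ := hPn y0 (hy0.symm ▸ nz e7)
  obtain ⟨t5, ht5, et5⟩ := hPn z5 (hz5.symm ▸ nz e57)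
  set N := Subgroup.normalizer (P : Set ↥H)
  obtain ⟨Q0, hQ0, hQm, hQn⟩ := lift_normalizer (φ.comp N.subtype) (Subgroup.zpowers x5)
    (by rw [Subgroup.zpowers_le]; exact ⟨⟨t5, ht5⟩, et5.trans hz5⟩) hX5
  obtain ⟨m0, hm0, em0⟩ := hQn ⟨y1, hy1⟩ (by
    show φ y1 ∈ _
    rw [ey1, hy0]; exact nz e5)
  set Q : Subgroup ↥H := Q0.map N.subtype
  set m : ↥H := (m0 : ↥H)
  have hmy : φ m = y := em0.trans (ey1.trans hy0)
  have hmP : m ∈ Subgroup.normalizer (P : Set ↥H) := m0.2
  have hmQ : m ∈ Subgroup.normalizer (Q : Set ↥H) := Subgroup.le_normalizer_map N.subtype ⟨m0, hm0, rfl⟩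
  obtain ⟨a7, ha7, ea7⟩ : x7 ∈ P.map φ := hPm ▸ Subgroup.mem_zpowers x7
  obtain ⟨a5', ha5', ea5⟩ : x5 ∈ Q0.map (φ.comp N.subtype) := hQm ▸ Subgroup.mem_zpowers x5
  -- embed
  let θ0 : ↥H →* GL chevF4.Idx L := (emb ι).comp H.subtype
  have hθ0 : Function.Injective θ0 := (emb_inj ι).comp H.subtype_injective
  obtain ⟨u, hu, hPu⟩ := conj_diag θ0 (fun x => emb_mem ι _) i7 _ le_rfl
    (diagonalSubgroup_le_group stdF4.good) P hP (fun a _ => emb_mem ι _)
  let θ1 : ↥H →* GL chevF4.Idx L := (MulAut.conj u).toMonoidHom.comp θ0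
  have hθ1 : Function.Injective θ1 := (MulAut.conj u).injective.comp hθ0
  have hG1 : ∀ x, θ1 x ∈ chevF4.group L := fun x => mul_mem (mul_mem hu (emb_mem ι _)) (inv_mem hu)
  have hcomm : ∀ s ∈ Q, ∀ a ∈ P, s * a = a * s := by
    rintro _ ⟨s, hs, rfl⟩
    refine cent_of_split θ1 hθ1 hG1 P hPu s.2 ?_
    obtain ⟨k, hk⟩ := (hQ0.map N.subtype) ⟨_, ⟨s, hs, rfl⟩⟩
    have hd : orderOf (s : ↥H) ∣ 5 ^ k := orderOf_dvd_of_pow_eq_one (congrArg Subtype.val hk)
    exact Nat.Coprime.coprime_dvd_right hd (Nat.Coprime.pow_right _ (by norm_num))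
  set C : Subgroup (GL chevF4.Idx L) := chevF4.group L ⊓ Subgroup.centralizer (θ1 '' P)
  obtain ⟨v, hv, hQv⟩ := conj_diag θ1 hG1 i5 C inf_le_left
    (le_inf (diagonalSubgroup_le_group stdF4.good) fun d hd => Subgroup.mem_centralizer_iff.2 (by
      rintro _ ⟨a, ha, rfl⟩
      exact (diag_comm stdF4.good (hPu a ha) hd).eq))
    Q (hQ0.map _) (fun s hs => Subgroup.mem_inf.2 ⟨hG1 s, Subgroup.mem_centralizer_iff.2 (by
      rintro _ ⟨a, ha, rfl⟩
      rw [← map_mul, ← map_mul, hcomm s hs a ha])⟩)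
  let θ2 : ↥H →* GL chevF4.Idx L := (MulAut.conj v).toMonoidHom.comp θ1
  have hθ2 : Function.Injective θ2 := (MulAut.conj v).injective.comp hθ1
  have hG2 : ∀ x, θ2 x ∈ chevF4.group L := fun x => mul_mem (mul_mem hv.1 (hG1 x)) (inv_mem hv.1)
  have hPv : ∀ a ∈ P, θ2 a ∈ chevF4.diagonalSubgroup L := fun a ha => by
    show v * θ1 a * v⁻¹ ∈ _
    rw [← Subgroup.mem_centralizer_iff.1 hv.2 _ ⟨a, ha, rfl⟩, mul_inv_cancel_right]
    exact hPu a ha
  -- one word
  obtain ⟨w, hw, hact⟩ := action_weyl (hG2 m) (P := θ2 '' ((P : Set ↥H) ∪ (Q : Set ↥H)))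
    (by rintro _ ⟨b, hb | hb, rfl⟩; exacts [hPv b hb, hQv b hb])
    (by
      rintro _ ⟨b, hb, rfl⟩
      refine ⟨m * b * m⁻¹, ?_, by simp⟩
      rcases hb with hb | hb
      exacts [Or.inl ((Subgroup.mem_normalizer_iff.1 hmP b).1 hb),
        Or.inr ((Subgroup.mem_normalizer_iff.1 hmQ b).1 hb)])
  have hact' : ∀ b ∈ (P : Set ↥H) ∪ (Q : Set ↥H), ∀ j : ℕ,
      nW L stdF4.good w ^ j * θ2 b * (nW L stdF4.good w ^ j)⁻¹ = θ2 (m ^ j * b * (m ^ j)⁻¹) :=
    fun b hb j => by rw [hact j _ ⟨b, hb, rfl⟩]; simp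
  obtain ⟨S, hS, hann, -⟩ := exists_ann hw
  rcases ann_arith S hS with hne | hne
  · refine hne ?_
    have := rel_contra θ2 hθ2 φ hw hann (m := m) (e := 3) (hPv a7 ha7) (hact' a7 (Or.inl ha7))
      (by rw [hmy, ea7, e7])
    rwa [ea7, o7] at this
  · refine hne ?_
    have hQ' : (a5' : ↥H) ∈ Q := ⟨a5', ha5', rfl⟩
    have ea5' : φ (a5' : ↥H) = x5 := ea5
    have := rel_contra θ2 hθ2 φ hw hann (m := m) (e := 2) (hQv _ hQ') (hact' _ (Or.inr hQ'))
      (by rw [hmy, ea5', e5])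
    rwa [ea5', o5] at this

/-- characteristic eleven: no section of degree twelve -/
theorem sections_eleven (h11 : ∃ n : ℕ, Fintype.card F = 11 ^ n) {r : ℕ} (H : Subgroup ↥(chevF4.group F))
    (φ : ↥H →* alternatingGroup (Fin r)) (hφ : Function.Surjective φ) : r ≤ 11 := by
  by_contra hr
  set X := (altEmb (show 12 ≤ r by omega)).range.comap φ
  let e := MonoidHom.ofInjective (altEmb_injective (show 12 ≤ r by omega))
  let φ₁ : ↥X →* alternatingGroup (Fin 12) := e.symm.toMonoidHom.comp (φ.subgroupComap _)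
  have h1 : Function.Surjective φ₁ := e.symm.surjective.comp (by
    rintro ⟨z, hz⟩
    obtain ⟨z0, rfl⟩ := hφ z
    exact ⟨⟨z0, hz⟩, rfl⟩)
  obtain ⟨H', φ', h'⟩ := section_map (H.subtype.comp X.subtype)
    (H.subtype_injective.comp X.subtype_injective) φ₁ h1
  obtain ⟨n, hn⟩ := h11
  refine not_twelve ?_ (by rw [hn, Nat.pow_mod]; norm_num) H' φ' h'
  rw [hn, Nat.pow_mod]
  have key : ∀ k : ℕ, 4 ^ k % 7 = 1 ∨ 4 ^ k % 7 = 2 ∨ 4 ^ k % 7 = 4 := by
    intro k
    induction k with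
    | zero => simp
    | succ k ih => rw [pow_succ, Nat.mul_mod]; rcases ih with e | e | e <;> rw [e] <;> norm_num
  exact key n

end CfsgLib.Chev.AltSect.F4
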