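/-
The Sylow subgroups for the prime seven of the groups of type twisted F4.
-/
import Cfsg.Agent.Lib.Chev.AltSect.Twist
import Cfsg.Agent.Lib.Chev.AltSect.Witness
import Cfsg.Agent.Lib.Chev.Twist.Fam.F4

set_option autoImplicit false
set_option maxRecDepth 100000

namespace CfsgLib.Chev.AltSect.F42

open Cfsg.Lie Matrix CfsgLib.Chev CfsgLib.Chev.AltSect

theorem exp8 : expChk chevF4 auxF4 foldF42 ftabF42 (7 + 1) = true := by decide +kernel

lemma two_pow_mod (k : ℕ) :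
    2 ^ k % 7 = 1 ∨ 2 ^ k % 7 = 2 ∨ 2 ^ k % 7 = 4 := by
  induction k with
  | zero => left; rfl
  | succ k ih =>
    rw [pow_succ, Nat.mul_mod]
    rcases ih with e | e | e <;> simp [e]

variable {K : Type*} [Field K] [CharP K 2] [Fintype K] {σ : K →+* K}

/-- the automizer bound -/
theorem autoExp_seven (hi : CfsgLib.Chev.F42.Inv2 σ) {k : ℕ} (hK : Fintype.card K = 2 ^ k) :
    AutoExp ↥(CfsgLib.Chev.F42.tw σ).fix 7 8 := by
  haveI : Fact (Nat.Prime 7) := ⟨by norm_num⟩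
  haveI : Finite (GL chevF4.Idx K) := finite_GL
  set q := Fintype.card K with hqdef
  obtain ⟨-, hcard⟩ := CfsgLib.Chev.F42.orders hi (q := q) rfl
  have h7 : Nat.Prime 7 := by norm_num
  have hq2 : 2 ≤ q := Fintype.one_lt_card
  have hmod : q % 7 = 1 ∨ q % 7 = 2 ∨ q % 7 = 4 := by rw [hK]; exact two_pow_mod k
  have hd4 : q ^ 4 - 1 = (q - 1) * ((q + 1) * (q ^ 2 + 1)) := by
    rw [← mul_assoc, show (q - 1) * (q + 1) = q ^ 2 - 1 by
      rw [mul_comm, ← Nat.sq_sub_sq, one_pow], mul_comm, show q ^ 4 = (q ^ 2) ^ 2 by ring]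
    conv_lhs => rw [show (1 : ℕ) = 1 ^ 2 by rfl, Nat.sq_sub_sq]
  set M := q ^ 12 * ((q ^ 3 + 1) * ((q + 1) * (q ^ 2 + 1)) * (q ^ 6 + 1)) with hM
  have hM7 : ¬ 7 ∣ M := by
    rw [Nat.dvd_iff_mod_eq_zero, hM]
    rcases hmod with e | e | e <;>
      norm_num [Nat.mul_mod, Nat.pow_mod, Nat.add_mod, e]
  by_cases hq1 : q % 7 = 1
  · refine autoExp_torus (CfsgLib.Chev.F42.tw σ) (T := ftabF42) ?_ exp8 ?_
    · exact ftabF42_ok
    have hc : Nat.card ↥((chevF4.diagonalSubgroup K).subgroupOf (CfsgLib.Chev.F42.tw σ).fix) = (q - 1) ^ 2 := by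
      rw [← CfsgLib.Chev.F42.card_diag hi, inf_comm, ← Subgroup.inf_subgroupOf_right]
      exact Nat.card_congr ((Subgroup.subgroupOfEquivOfLe (inf_le_right (a := chevF4.diagonalSubgroup K))).toEquiv.trans (Equiv.setCongr (by rw [inf_comm])))
    intro hdvd
    refine hM7 ?_
    have hidx := Subgroup.card_mul_index ((chevF4.diagonalSubgroup K).subgroupOf (CfsgLib.Chev.F42.tw σ).fix)
    rw [hc, hcard, hd4] at hidx
    have e : ((chevF4.diagonalSubgroup K).subgroupOf (CfsgLib.Chev.F42.tw σ).fix).index = M := by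
      refine Nat.eq_of_mul_eq_mul_left (Nat.pow_pos (n := 2) (show 0 < q - 1 by omega)) (hidx.trans ?_)
      rw [hM]; ring
    rwa [e] at hdvd
  · refine autoExp_of_not_dvd ?_
    rw [hcard, hd4, show q ^ 12 * (q - 1) * (q ^ 3 + 1) * ((q - 1) * ((q + 1) * (q ^ 2 + 1))) * (q ^ 6 + 1) =
      (q - 1) ^ 2 * M by rw [hM]; ring]
    intro hd
    rcases (Nat.Prime.dvd_mul h7).1 hd with h | h
    · have := h7.dvd_of_dvd_pow h
      omega
    · exact hM7 h

end CfsgLib.Chev.AltSect.F42
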