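/-
Alternating sections of the groups of type G2.
-/
import Cfsg.Agent.Lib.Chev.AltSect.Split
import Cfsg.Agent.Lib.Chev.AltSect.EightMain
import Cfsg.Agent.Lib.Chev.OddInvol.Toral
import Cfsg.Agent.Lib.Chev.OddInvol.Main
import Cfsg.Agent.Lib.Chev.OrderTypes
import Cfsg.Agent.Lib.Chev.G2Spec.Semi
import Mathlib.FieldTheory.Finite.Extension
import Mathlib.LinearAlgebra.Matrix.Rank

set_option autoImplicit false
set_option maxRecDepth 100000

namespace CfsgLib.Chev.AltSect.G2

open Cfsg.Lie Matrix CfsgLib.Chev CfsgLib.Chev.AltSect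
open CfsgLib.KnownB.ChevField (group_map_le map_tor unimodular_G2)

universe u

theorem exp6 : expChkV chevG2 auxG2 weylG2 0 (5 + 1) = true := by decide +kernel
theorem exp2 : ∀ v, v < 4 → v ≠ 0 → expChkV chevG2 auxG2 weylG2 v (1 + 1) = true := by decide +kernel
theorem pairG2 : OddInvol.pairCheck chevG2 auxG2 = true := by decide +kernel
theorem count8 : ∀ v : Fin 4, v.val ≠ 0 → (Finset.univ.filter fun s : Fin chevG2.nroots =>
    OddInvol.pb chevG2 auxG2 v.val s.val = false).card = 8 := by decide +kernel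

/-- the torus has index prime to five or seven when the field is split for it -/
theorem index_G2 {K : Type u} [Field K] [Fintype K] {p : ℕ} (hp : p.Prime) (hQ : Fintype.card K % p = 1)
    (h12 : ¬ p ∣ 12) : ¬ p ∣ ((chevG2.diagonalSubgroup K).subgroupOf (chevG2.group K)).index := by
  haveI : Finite (GL chevG2.Idx K) := finite_GL
  set Q := Fintype.card K with hQdef
  have hQ2 : 2 ≤ Q := Fintype.one_lt_card
  have h := order_formula (F := K) stdG2 weylOKG2 smithG2 poinG2 hQdef.symm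
  rw [show chevG2.nroots / 2 = 6 from rfl] at h
  change (∏ i : Fin 2, Nat.gcd ((![1, 1] : Fin 2 → ℕ) i) (Q - 1)) * _ = _ at h
  simp [Fin.prod_univ_succ] at h
  have hidx := Subgroup.card_mul_index ((chevG2.diagonalSubgroup K).subgroupOf (chevG2.group K))
  rw [Nat.card_congr (Subgroup.subgroupOfEquivOfLe (diagonalSubgroup_le_group stdG2.good)).toEquiv,
    G2Spec.card_diag, ← hQdef] at hidx
  change (Q - 1) ^ 2 * _ = _ at hidx
  set M := Q ^ 6 * ((Q + 1) * (Q ^ 5 + Q ^ 4 + Q ^ 3 + Q ^ 2 + Q + 1))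
  have e : ((chevG2.diagonalSubgroup K).subgroupOf (chevG2.group K)).index = M := by
    refine Nat.eq_of_mul_eq_mul_left (Nat.pow_pos (n := 2) (show 0 < Q - 1 by omega)) (hidx.trans ?_)
    rw [h]
    obtain ⟨n, hn⟩ : ∃ n, Q = n + 2 := ⟨Q - 2, by omega⟩
    simp only [M, hn, show n + 2 - 1 = n + 1 by omega]
    have e2 : (n + 2) ^ 2 - 1 = (n + 1) * (n + 3) := by
      rw [Nat.sub_eq_iff_eq_add (Nat.one_le_pow _ _ (by omega))]; ring
    have e6 : (n + 2) ^ 6 - 1 = (n + 1) * ((n + 2) ^ 5 + (n + 2) ^ 4 + (n + 2) ^ 3 + (n + 2) ^ 2 + (n + 2) + 1) := by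
      rw [Nat.sub_eq_iff_eq_add (Nat.one_le_pow _ _ (by omega))]; ring
    rw [e2, e6]
    ring
  rw [e, ← ZMod.natCast_eq_zero_iff]
  have hQ1 : (Q : ZMod p) = 1 := by
    rw [← ZMod.natCast_mod, hQ, Nat.cast_one]
  simp only [M, Nat.cast_mul, Nat.cast_pow, Nat.cast_add, Nat.cast_one, hQ1, one_pow, one_mul]
  norm_num
  intro h0
  exact h12 ((ZMod.natCast_eq_zero_iff 12 p).1 (by exact_mod_cast h0))

/-- a field where `d`-th powers of the order are one -/
theorem exists_split (F : Type u) [Field F] [Fintype F] (d : ℕ) (hd : d ≠ 0) :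
    ∃ (L : Type) (_ : Field L) (_ : Fintype L) (_ : F →+* L), Fintype.card L = Fintype.card F ^ d := by
  obtain ⟨p, _⟩ := CharP.exists F
  have : Fact p.Prime := ⟨CharP.char_is_prime F p⟩
  have : NeZero d := ⟨hd⟩
  let L := FiniteField.Extension F p d
  have hL : Nat.card L = Fintype.card F ^ d := by
    rw [FiniteField.natCard_extension, Nat.card_eq_fintype_card]
  have : Finite L := Nat.finite_of_card_ne_zero (by rw [hL]; exact pow_ne_zero _ Fintype.card_ne_zero)
  letI := Fintype.ofFinite L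
  exact ⟨L, inferInstance, inferInstance, algebraMap F L, by rw [← Nat.card_eq_fintype_card, hL]⟩

variable {F : Type u} [Field F] [Fintype F]

/-- the base change -/
noncomputable def bc {L : Type} [Field L] (ι : F →+* L) : ↥(chevG2.group F) →* ↥(chevG2.group L) :=
  ((Matrix.GeneralLinearGroup.map ι).comp (chevG2.group F).subtype).codRestrict _
    fun x => group_map_le stdG2.good ι ⟨x.1, x.2, rfl⟩

lemma bc_inj {L : Type} [Field L] (ι : F →+* L) : Function.Injective (bc ι) := by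
  intro x y e
  have h1 : Matrix.GeneralLinearGroup.map (n := chevG2.Idx) ι x.1 = Matrix.GeneralLinearGroup.map ι y.1 :=
    congrArg Subtype.val e
  refine Subtype.ext (Units.ext (Matrix.ext fun i j => ι.injective ?_))
  exact congrArg (fun z : GL chevG2.Idx L => (z : Matrix chevG2.Idx chevG2.Idx L) i j) h1

/-- the characteristic other than five: no section of degree seven -/
theorem sections_ne_five (h5 : ¬ 5 ∣ Fintype.card F) {r : ℕ} (H : Subgroup ↥(chevG2.group F))
    (φ : ↥H →* alternatingGroup (Fin r)) (hφ : Function.Surjective φ) : r ≤ 6 := by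
  haveI : Fact (Nat.Prime 5) := ⟨by norm_num⟩
  obtain ⟨L, _, _, ι, hL⟩ := exists_split F 4 (by norm_num)
  haveI : Finite (GL chevG2.Idx L) := finite_GL
  have hQ : Fintype.card L % 5 = 1 := by
    rw [hL, Nat.pow_mod]
    have : Fintype.card F % 5 = 1 ∨ Fintype.card F % 5 = 2 ∨ Fintype.card F % 5 = 3 ∨
        Fintype.card F % 5 = 4 := by omega
    rcases this with e | e | e | e <;> rw [e] <;> norm_num
  set c : Fin chevG2.rank → Lˣ := OddInvol.sgn L chevG2.rank 0
  have hc : c = 1 := funext fun i => by simp [c, OddInvol.sgn]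
  have hA : AutoExp ↥(cenTor chevG2 auxG2 c) 5 (5 + 1) :=
    autoExp_cent stdG2 c (fun w hw hst => exp_of_chk stdG2 weylOKG2 exp6 (Or.inr rfl) hw hst)
      (index_G2 (by norm_num) hQ (by norm_num))
  let ψ : ↥H →* ↥(cenTor chevG2 auxG2 c) :=
    ((chevG2.group L).subtype.comp ((bc ι).comp H.subtype)).codRestrict _ fun x =>
      mem_cenTor.2 ⟨(bc ι x.1).2, by simp [hc]⟩
  have hψ : Function.Injective ψ := fun x y e => H.subtype_injective (bc_inj ι
    (Subtype.ext (congrArg (fun z : ↥(cenTor chevG2 auxG2 c) => (z : GL chevG2.Idx L)) e)))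
  obtain ⟨H', φ', h'⟩ := section_map ψ hψ φ hφ
  exact five_sections hA (by norm_num) H' φ' h'

lemma two_ne (h5 : 5 ∣ Fintype.card F) : (2 : F) ≠ 0 := by
  intro e
  obtain ⟨p, _⟩ := CharP.exists F
  obtain ⟨n, hp, hn⟩ := FiniteField.card F p
  have h : p ∣ 2 := (CharP.cast_eq_zero_iff F p 2).1 (by exact_mod_cast e)
  have h' : 5 ∣ p := (Nat.Prime.dvd_of_dvd_pow (by norm_num) (hn ▸ h5))
  have := Nat.le_of_dvd (by norm_num) h
  have := Nat.le_of_dvd hp.pos h'
  omega

lemma toral (h2 : (2 : F) ≠ 0) (t : ↥(chevG2.group F)) (ht : t * t = 1) (h1 : t ≠ 1) :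
    ∃ y ∈ chevG2.group F, ∃ v, v < 4 ∧ v ≠ 0 ∧
      y⁻¹ * (t : GL chevG2.Idx F) * y = tor chevG2 auxG2 (OddInvol.sgn F chevG2.rank v) := by
  obtain ⟨y, hy, c, hc, e⟩ := OddInvol.exists_toral stdG2 unimodular_G2 pairG2 h2 t.2
    (congrArg Subtype.val ht)
  obtain ⟨v, hv, rfl⟩ := OddInvol.exists_sgn c h2 hc
  refine ⟨y, hy, v, hv, fun e0 => h1 (Subtype.ext ?_), e⟩
  subst e0
  rw [show OddInvol.sgn F chevG2.rank 0 = 1 from funext fun i => by simp [OddInvol.sgn], map_one] at e
  have := congrArg (fun z => y * z * y⁻¹) e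
  simpa [mul_assoc] using this

/-- the representation -/
noncomputable def rep : ↥(chevG2.group F) →* Module.End F (chevG2.Idx → F) :=
  ((Matrix.toLinAlgEquiv' : Matrix chevG2.Idx chevG2.Idx F ≃ₐ[F] _).toRingEquiv.toRingHom.toMonoidHom).comp
    ((Units.coeHom _).comp (chevG2.group F).subtype)

lemma fix_dim (h2 : (2 : F) ≠ 0) (t : ↥(chevG2.group F)) (ht : t * t = 1) (h1 : t ≠ 1) :
    Module.finrank F (fixS (rep t)) = 6 := by
  classical
  obtain ⟨y, -, v, hv, hv0, e⟩ := toral h2 t ht h1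
  set M : Matrix chevG2.Idx chevG2.Idx F := ((t : GL chevG2.Idx F) : Matrix chevG2.Idx chevG2.Idx F)
  have hker : fixS (rep t) = LinearMap.ker (M - 1).mulVecLin := by
    ext x
    rw [mem_fixS, LinearMap.mem_ker, Matrix.mulVecLin_apply, Matrix.sub_mulVec, Matrix.one_mulVec, sub_eq_zero]
    rfl
  have hrn := LinearMap.finrank_range_add_finrank_ker (M - 1).mulVecLin
  set Z : Matrix chevG2.Idx chevG2.Idx F :=
    ((tor chevG2 auxG2 (OddInvol.sgn F chevG2.rank v) : GL chevG2.Idx F) : Matrix chevG2.Idx chevG2.Idx F)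
  have hM : M - 1 = (y : Matrix chevG2.Idx chevG2.Idx F) * (Z - 1) * ((y⁻¹ : GL chevG2.Idx F) : Matrix chevG2.Idx chevG2.Idx F) := by
    have e2 : (t : GL chevG2.Idx F) = y * tor chevG2 auxG2 (OddInvol.sgn F chevG2.rank v) * y⁻¹ := by
      rw [← e]; group
    rw [Matrix.mul_sub, Matrix.sub_mul, Matrix.mul_one, Units.mul_inv]
    simp only [M, e2, Units.val_mul, Z]
  have hr : (M - 1).rank = 8 := by
    rw [hM, Matrix.rank_mul_eq_left_of_isUnit_det _ _ ((Matrix.isUnit_iff_isUnit_det _).1 (y⁻¹).isUnit),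
      Matrix.rank_mul_eq_right_of_isUnit_det _ _ ((Matrix.isUnit_iff_isUnit_det _).1 y.isUnit)]
    simp only [Z, tor_val, dia]
    rw [← Matrix.diagonal_one, Matrix.diagonal_sub, Matrix.rank_diagonal, ← count8 ⟨v, hv⟩ hv0,
      ← Fintype.card_coe]
    have hm : ∀ s : Fin chevG2.nroots,
        ((chi chevG2 auxG2 (OddInvol.sgn F chevG2.rank v) s : Fˣ) : F) - 1 ≠ 0 ↔
          OddInvol.pb chevG2 auxG2 v s = false := by
      intro s
      rw [OddInvol.chi_sgn]
      cases OddInvol.pb chevG2 auxG2 v s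
      · simp only [Bool.false_eq_true, if_false, Units.val_neg, Units.val_one, iff_true]
        intro h0
        exact h2 (by linear_combination -h0)
      · simp
    refine Fintype.card_congr
      { toFun := fun i => match i with
          | ⟨Sum.inl a, ha⟩ => absurd (by simp) ha
          | ⟨Sum.inr s, hs⟩ => ⟨s, Finset.mem_filter.2 ⟨Finset.mem_univ _, (hm s).1 (by simpa using hs)⟩⟩
        invFun := fun s => ⟨Sum.inr s.1, by simpa using (hm s.1).2 (Finset.mem_filter.1 s.2).2⟩
        left_inv := fun i => match i with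
          | ⟨Sum.inl a, ha⟩ => absurd (by simp) ha
          | ⟨Sum.inr s, hs⟩ => rfl
        right_inv := fun s => rfl }
  have hdim : Module.finrank F (chevG2.Idx → F) = 14 := by
    rw [Module.finrank_fintype_fun_eq_card]; decide +kernel
  rw [hdim] at hrn
  rw [hker]
  have : Module.finrank F (LinearMap.range (M - 1).mulVecLin) = 8 := hr
  omega

/-- involution centralisers have no section of degree seven -/
theorem cent_sections (h7 : ¬ 7 ∣ Fintype.card F) (h2 : (2 : F) ≠ 0) (z : ↥(chevG2.group F))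
    (hz : z * z = 1) (hz1 : z ≠ 1) (H : Subgroup ↥(chevG2.group F)) (hH : ∀ h ∈ H, h * z = z * h) (r : ℕ)
    (φ : ↥H →* alternatingGroup (Fin r)) (hφ : Function.Surjective φ) : r ≤ 6 := by
  haveI : Fact (Nat.Prime 7) := ⟨by norm_num⟩
  obtain ⟨L, _, _, ι, hL⟩ := exists_split F 6 (by norm_num)
  haveI : Finite (GL chevG2.Idx L) := finite_GL
  have hQ : Fintype.card L % 7 = 1 := by
    rw [hL, Nat.pow_mod]
    have : Fintype.card F % 7 = 1 ∨ Fintype.card F % 7 = 2 ∨ Fintype.card F % 7 = 3 ∨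
        Fintype.card F % 7 = 4 ∨ Fintype.card F % 7 = 5 ∨ Fintype.card F % 7 = 6 := by omega
    rcases this with e | e | e | e | e | e <;> rw [e] <;> norm_num
  obtain ⟨y, hy, v, hv, hv0, e⟩ := toral h2 z hz hz1
  have h2L : (2 : L) ≠ 0 := fun e0 => h2 (ι.injective (by rw [map_ofNat, map_zero, e0]))
  set c : Fin chevG2.rank → Lˣ := OddInvol.sgn L chevG2.rank v
  have hA : AutoExp ↥(cenTor chevG2 auxG2 c) 7 (1 + 1) :=
    autoExp_cent stdG2 c (fun w hw hst => exp_of_chk stdG2 weylOKG2 (exp2 v hv hv0) (Or.inl h2L) hw hst)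
      (index_G2 (by norm_num) hQ (by norm_num))
  set yy : ↥(chevG2.group F) := ⟨y, hy⟩
  have hzc : Matrix.GeneralLinearGroup.map ι (tor chevG2 auxG2 (OddInvol.sgn F chevG2.rank v)) =
      (tor chevG2 auxG2 c : GL chevG2.Idx L) := by
    rw [map_tor]
    congr 1
    funext i
    simp only [c, OddInvol.sgn]
    split_ifs <;> simp
  let f : ↥(chevG2.group F) →* GL chevG2.Idx L :=
    (chevG2.group L).subtype.comp ((bc ι).comp (MulAut.conj yy⁻¹).toMonoidHom)
  have hfz : f z = tor chevG2 auxG2 c := by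
    rw [← hzc, ← e]
    simp [f, bc, yy, MulAut.conj_apply]
  let ψ : ↥H →* ↥(cenTor chevG2 auxG2 c) :=
    (f.comp H.subtype).codRestrict _ fun x => mem_cenTor.2 ⟨(bc ι _).2, by
      rw [← hfz]
      show f x.1 * f z = f z * f x.1
      rw [← map_mul, hH _ x.2, map_mul]⟩
  have hψ : Function.Injective ψ := fun a b e0 => H.subtype_injective ((MulAut.conj yy⁻¹).injective (bc_inj ι
    (Subtype.ext (congrArg (fun w : ↥(cenTor chevG2 auxG2 c) => (w : GL chevG2.Idx L)) e0))))
  obtain ⟨H', φ', h'⟩ := section_map ψ hψ φ hφ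
  exact seven_sections hA (by norm_num) H' φ' h'

/-- characteristic five: no section of degree eight -/
theorem sections_five (h5 : 5 ∣ Fintype.card F) {r : ℕ} (H : Subgroup ↥(chevG2.group F))
    (φ : ↥H →* alternatingGroup (Fin r)) (hφ : Function.Surjective φ) : r ≤ 7 := by
  haveI : Finite (GL chevG2.Idx F) := finite_GL
  have h7 : ¬ 7 ∣ Fintype.card F := by
    intro h7
    obtain ⟨p, _⟩ := CharP.exists F
    obtain ⟨n, hp, hn⟩ := FiniteField.card F p
    have a : 5 = p := (Nat.prime_dvd_prime_iff_eq (by norm_num) hp).1 (Nat.Prime.dvd_of_dvd_pow (by norm_num) (hn ▸ h5))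
    have b : 7 = p := (Nat.prime_dvd_prime_iff_eq (by norm_num) hp).1 (Nat.Prime.dvd_of_dvd_pow (by norm_num) (hn ▸ h7))
    omega
  refine sections_le_seven (rep (F := F)) (n := 14) (f := 6) (n2 := 2) (n3 := 0) (by norm_num) ?_ (fix_dim (two_ne h5)) (two_ne h5)
    (fun z hz hz1 H hH r φ hφ => cent_sections h7 (two_ne h5) z hz hz1 H hH r φ hφ) H φ hφ
  rw [Module.finrank_fintype_fun_eq_card]; decide +kernel

end CfsgLib.Chev.AltSect.G2
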